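import Mathlib

/-!
# Bochert's bound

Two permutations whose supports meet in one point have a 3-cycle as commutator; the
minimal base argument.
-/

set_option autoImplicit false

namespace Cfsg.Agent.H427

open Equiv Equiv.Perm

variable {Ω : Type*}

theorem pais (e : Perm Ω) (x : Ω) : e (e⁻¹ x) = x := e.apply_symm_apply x

theorem piis (e : Perm Ω) (x : Ω) : e⁻¹ (e x) = x := e.symm_apply_apply x

variable [Fintype Ω] [DecidableEq Ω]

/-- The commutator of two permutations whose supports meet in exactly one point is a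
3-cycle. -/
theorem isThreeCycle_commutator_of_support_inter {x y : Perm Ω} {δ : Ω}
    (hx : x δ ≠ δ) (hy : y δ ≠ δ) (h : ∀ ω, x ω ≠ ω → y ω ≠ ω → ω = δ) :
    IsThreeCycle (x * y * x⁻¹ * y⁻¹) := by
  have hxy : x δ ≠ y δ := by
    intro e
    have h1 : y δ = δ := h (y δ) (by rw [← e]; exact fun h' => hx (x.injective h'))
      (fun h' => hy (y.injective h'))
    exact hy h1
  have key : x * y * x⁻¹ * y⁻¹ = swap (x δ) δ * swap (x δ) (y δ) := by
    -- facts
    have hxx : x (x δ) ≠ x δ := fun h' => hx (x.injective h')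
    have hyy : y (y δ) ≠ y δ := fun h' => hy (y.injective h')
    have hyx : y (x δ) = x δ := by
      by_contra hc
      exact hx (h _ hxx hc)
    have hxy' : x (y δ) = y δ := by
      by_contra hc
      exact hy (h _ hc hyy)
    have hyi : y⁻¹ (x δ) = x δ := by rw [inv_eq_iff_eq, hyx]
    have hxi : x⁻¹ (y δ) = y δ := by rw [inv_eq_iff_eq, hxy']
    -- the point `y⁻¹ δ`
    have hyδ : y⁻¹ δ ≠ δ := fun h' => hy (by rw [inv_eq_iff_eq] at h'; exact h'.symm)
    have hxδ : x⁻¹ δ ≠ δ := fun h' => hx (by rw [inv_eq_iff_eq] at h'; exact h'.symm)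
    have h1 : x (y⁻¹ δ) = y⁻¹ δ := by
      by_contra hc
      exact hyδ (h _ hc (by rw [pais]; exact hyδ.symm))
    have h1' : x⁻¹ (y⁻¹ δ) = y⁻¹ δ := by rw [inv_eq_iff_eq, h1]
    have h2 : y (x⁻¹ δ) = x⁻¹ δ := by
      by_contra hc
      exact hxδ (h _ (by rw [pais]; exact hxδ.symm) hc)
    ext ω
    simp only [Perm.coe_mul, Function.comp_apply]
    by_cases hω1 : ω = δ
    · subst hω1
      rw [h1', pais, swap_apply_of_ne_of_ne hx.symm hy.symm, swap_apply_right]
    by_cases hω2 : ω = x δ
    · subst hω2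
      rw [hyi, piis, hxy', swap_apply_left, swap_apply_of_ne_of_ne hxy.symm hy]
    by_cases hω3 : ω = y δ
    · subst hω3
      rw [piis, h2, pais, swap_apply_right, swap_apply_left]
    rw [swap_apply_of_ne_of_ne hω2 hω3, swap_apply_of_ne_of_ne hω2 hω1]
    by_cases hyω : y ω = ω
    · have : y⁻¹ ω = ω := by rw [inv_eq_iff_eq, hyω]
      rw [this]
      by_cases hxω : x ω = ω
      · have : x⁻¹ ω = ω := by rw [inv_eq_iff_eq, hxω]
        rw [this, hyω, hxω]
      · have h3 : x (x⁻¹ ω) ≠ x⁻¹ ω := by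
          rw [pais]; intro h'; exact hxω (by rw [eq_comm, inv_eq_iff_eq] at h'; exact h'.symm)
        have h4 : x⁻¹ ω ≠ δ := fun h' => hω2 (by rw [inv_eq_iff_eq] at h'; exact h')
        have h5 : y (x⁻¹ ω) = x⁻¹ ω := by
          by_contra hc
          exact h4 (h _ h3 hc)
        rw [h5, pais]
    · have hxω : x ω = ω := by
        by_contra hc
        exact hω1 (h _ hc hyω)
      have h3 : y (y⁻¹ ω) ≠ y⁻¹ ω := by
        rw [pais]; intro h'; exact hyω (by rw [eq_comm, inv_eq_iff_eq] at h'; exact h'.symm)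
      have h4 : y⁻¹ ω ≠ δ := fun h' => hω3 (by rw [inv_eq_iff_eq] at h'; exact h')
      have h5 : x (y⁻¹ ω) = y⁻¹ ω := by
        by_contra hc
        exact h4 (h _ hc h3)
      have h6 : x⁻¹ (y⁻¹ ω) = y⁻¹ ω := by rw [inv_eq_iff_eq, h5]
      rw [h6, pais, hxω]
  rw [key]
  exact isThreeCycle_swap_mul_swap_same hx hxy hy.symm

/-- **Bochert's bound.** A primitive permutation group of degree `n` not containing the
alternating group satisfies `|H| ⌊(n+1)/2⌋! ≤ n!`. -/
theorem bochert (H : Subgroup (Perm Ω)) (hprim : MulAction.IsPreprimitive H Ω)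
    (hA : ¬ alternatingGroup Ω ≤ H) :
    Nat.card H * Nat.factorial ((Fintype.card Ω + 1) / 2) ≤ Nat.factorial (Fintype.card Ω) := by
  classical
  -- the sets of points supporting no nontrivial element of `H`
  let good : Finset (Finset Ω) :=
    Finset.univ.filter fun Γ => ∀ h ∈ H, (∀ ω, h ω ≠ ω → ω ∈ Γ) → h = 1
  have hne : good.Nonempty := ⟨∅, by
    simp only [good, Finset.mem_filter, Finset.mem_univ, true_and]
    intro h _ hh
    ext ω
    by_contra hc
    simpa using hh ω hc⟩
  obtain ⟨Γ, hΓ, hmax⟩ := good.exists_max_image Finset.card hne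
  have hΓ' : ∀ h ∈ H, (∀ ω, h ω ≠ ω → ω ∈ Γ) → h = 1 := by
    simpa [good] using hΓ
  have hmax' : ∀ Δ : Finset Ω, Γ.card < Δ.card →
      ∃ h ∈ H, (∀ ω, h ω ≠ ω → ω ∈ Δ) ∧ h ≠ 1 := by
    intro Δ hΔ
    by_contra hc
    push Not at hc
    have : Δ ∈ good := by simpa [good] using hc
    have := hmax Δ this
    omega
  have hcard : (Fintype.card Ω + 1) / 2 ≤ Γ.card := by
    by_contra hc
    have hlt : Γ.card < (Γᶜ).card := by
      rw [Finset.card_compl]
      omega
    obtain ⟨x, hxH, hxs, hx1⟩ := hmax' _ hlt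
    obtain ⟨δ, hδ⟩ : ∃ δ, x δ ≠ δ := by
      by_contra hc'
      push Not at hc'
      exact hx1 (Equiv.ext hc')
    have hδΓ : δ ∉ Γ := by simpa using hxs δ hδ
    obtain ⟨y, hyH, hys, hy1⟩ := hmax' (insert δ Γ) (by rw [Finset.card_insert_of_notMem hδΓ]; omega)
    have hyδ : y δ ≠ δ := by
      intro hc'
      apply hy1
      apply hΓ' y hyH
      intro ω hω
      have := hys ω hω
      rw [Finset.mem_insert] at this
      rcases this with rfl | h
      · exact absurd hc' hω
      · exact h
    have h3 : IsThreeCycle (x * y * x⁻¹ * y⁻¹) := by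
      apply isThreeCycle_commutator_of_support_inter hδ hyδ
      intro ω h1 h2
      have h3 := hxs ω h1
      have h4 := hys ω h2
      rw [Finset.mem_compl] at h3
      rw [Finset.mem_insert] at h4
      exact h4.resolve_right h3
    apply hA
    apply alternatingGroup_le_of_isPreprimitive_of_isThreeCycle_mem hprim h3
    exact H.mul_mem (H.mul_mem (H.mul_mem hxH hyH) (H.inv_mem hxH)) (H.inv_mem hyH)
  -- count
  let K : Subgroup (Perm Ω) := (ofSubtype : Perm {ω // ω ∈ Γ} →* Perm Ω).range
  have hK : Nat.card K = Nat.factorial Γ.card := by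
    have e : Perm {ω // ω ∈ Γ} ≃* K := MonoidHom.ofInjective ofSubtype_injective
    rw [← Nat.card_congr e.toEquiv, Nat.card_perm]
    simp
  have hdis : Disjoint H K := by
    rw [Subgroup.disjoint_def]
    intro x hxH hxK
    apply hΓ' x hxH
    intro ω hω
    exact mem_range_ofSubtype_iff.mp hxK (by simpa using hω)
  have hinj := Subgroup.mul_injective_of_disjoint hdis
  have h1 := Nat.card_le_card_of_injective _ hinj
  rw [Nat.card_prod, Nat.card_perm, hK, Nat.card_eq_fintype_card (α := Ω)] at h1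
  exact le_trans (Nat.mul_le_mul_left _ (Nat.factorial_le hcard)) h1

end Cfsg.Agent.H427
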