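import Mathlib
import Cfsg.Agent.H189.FeitTits
import Cfsg.Agent.Lib.ElemAbGL
import Cfsg.Agent.Lib.MinNormalNonabelian
import Cfsg.Agent.SolvableStructure.HuppertPrimeIndex

/-!
# Groups with quotient `A_m` acting on small groups (helper427)

`centralizes_ker` : `π : L → A_m` surjective, the Sylow subgroups of the kernel have small rank,
`p` divides `m! / 2`, `p²` does not divide `|L|`: elements of order `p` centralize the kernel.
-/

set_option autoImplicit false

namespace Cfsg.Agent.H427.Cs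

open Subgroup
open scoped Pointwise

theorem mem_of_normal {H : Type*} [Group H] [Finite H] {p : ℕ} (hp : p.Prime) (hp2 : ¬ p ^ 2 ∣ Nat.card H)
    (K : Subgroup H) [K.Normal] (hK : p ∣ Nat.card K) {x : H} (hx : orderOf x = p) : x ∈ K := by
  have h1 : ¬ p ∣ K.index := by
    intro h
    apply hp2
    rw [← K.card_mul_index, pow_two]
    exact Nat.mul_dvd_mul hK h
  have h2 : orderOf (QuotientGroup.mk' K x) ∣ p := by
    rw [← hx]
    exact orderOf_map_dvd _ x
  have h3 : orderOf (QuotientGroup.mk' K x) ∣ K.index := by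
    rw [Subgroup.index_eq_card]
    exact orderOf_dvd_natCard _
  rcases (Nat.dvd_prime hp).mp h2 with h4 | h4
  · rw [orderOf_eq_one_iff] at h4
    exact (QuotientGroup.eq_one_iff x).mp h4
  · rw [h4] at h3
    exact absurd h3 h1

/-- a minimal normal `t`-subgroup is elementary abelian -/
theorem elab_of_min {Q : Type*} [Group Q] [Finite Q] {t : ℕ} (ht : t.Prime) (V : Subgroup Q) [V.Normal]
    (hV : IsPGroup t V) (hV0 : V ≠ ⊥) (hmin : ∀ L : Subgroup Q, L.Normal → L ≤ V → L = ⊥ ∨ L = V) :
    (∀ x ∈ V, ∀ y ∈ V, Commute x y) ∧ ∀ x ∈ V, x ^ t = 1 := by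
  have hF : Fact t.Prime := ⟨ht⟩
  have hnt : Nontrivial V := (Subgroup.nontrivial_iff_ne_bot V).mpr hV0
  have hZ := hV.center_nontrivial
  have hZn : ((center V).map V.subtype).Normal := inferInstance
  have hab : ∀ x ∈ V, ∀ y ∈ V, Commute x y := by
    rcases hmin _ hZn (Subgroup.map_subtype_le _) with h | h
    · exfalso
      rw [Subgroup.map_eq_bot_iff_of_injective _ V.subtype_injective] at h
      rw [Subgroup.nontrivial_iff_ne_bot] at hZ
      exact hZ h
    · intro x hx y hy
      rw [← h] at hx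
      obtain ⟨x', hx', rfl⟩ := hx
      have := mem_center_iff.mp hx' ⟨y, hy⟩
      exact (congrArg Subtype.val this).symm
  refine ⟨hab, ?_⟩
  obtain ⟨q, hq, hqV, hexp⟩ := Cfsg.Agent.Lib.MinNormalNonabelian.abelian_structure V hV0 hmin hab
  have hqt : q = t := by
    obtain ⟨v, hv⟩ := exists_ne (1 : V)
    have hqF : Fact q.Prime := ⟨hq⟩
    have h1 : orderOf v = q := orderOf_eq_prime (Subtype.ext (hexp v v.2)) hv
    obtain ⟨k, hk⟩ := (isPGroup_iff_orderOf_dvd_pow.mp hV) v
    rw [h1] at hk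
    exact (Nat.prime_dvd_prime_iff_eq hq ht).mp (hq.dvd_of_dvd_pow hk)
  rw [← hqt]
  exact hexp

theorem centralizes_pgroup {H : Type*} [Group H] [Finite H] {t m p : ℕ} (ht : t.Prime) (hm : 9 ≤ m)
    (R : Subgroup H) [R.Normal] (hR : IsPGroup t R) (hcard : Nat.card R < t ^ (m - 2))
    (π : H →* alternatingGroup (Fin m)) (hπ : Function.Surjective π) (hp : p.Prime) (hpt : p ≠ t)
    (hpm : p ∣ Nat.card (alternatingGroup (Fin m))) (hp2 : ¬ p ^ 2 ∣ Nat.card H) (x : H) (hx : orderOf x = p) :
    ∀ y ∈ R, x * y * x⁻¹ * y⁻¹ = 1 := by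
  have hF : Fact t.Prime := ⟨ht⟩
  have key := Cfsg.Agent.SolvableStructure.HuppertPrimeIndex.comm_mem_of_chain R ⊥ hR x
    (by rw [hx]; exact (Nat.coprime_primes hp ht).2 hpt) ?_ ⊥ Subgroup.normal_bot le_rfl bot_le
  · intro y hy
    exact mem_bot.mp (key y hy)
  intro A B hA hB _ hAB hBR hmin
  have hBn : (B.map (QuotientGroup.mk' A)).Normal := hB.map _ (QuotientGroup.mk'_surjective A)
  have hVp : IsPGroup t (B.map (QuotientGroup.mk' A)) := (hR.to_le hBR).map _
  have hV0 : B.map (QuotientGroup.mk' A) ≠ ⊥ := by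
    intro h
    rw [Subgroup.map_eq_bot_iff, QuotientGroup.ker_mk'] at h
    exact absurd h (not_le_of_gt hAB)
  have hVmin : ∀ L : Subgroup (H ⧸ A), L.Normal → L ≤ B.map (QuotientGroup.mk' A) →
      L = ⊥ ∨ L = B.map (QuotientGroup.mk' A) := by
    intro L hL hLB
    by_cases hL0 : L = ⊥
    · exact Or.inl hL0
    right
    have h1 : A ≤ L.comap (QuotientGroup.mk' A) := by
      intro a ha
      have h0 : QuotientGroup.mk' A a = 1 := (QuotientGroup.eq_one_iff a).mpr ha
      rw [mem_comap, h0]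
      exact one_mem _
    have h2 : A < L.comap (QuotientGroup.mk' A) := by
      refine lt_of_le_of_ne h1 fun h3 => hL0 ?_
      rw [eq_bot_iff]
      intro z hz
      obtain ⟨a, rfl⟩ := QuotientGroup.mk'_surjective A z
      have : a ∈ L.comap (QuotientGroup.mk' A) := hz
      rw [← h3] at this
      exact mem_bot.mpr ((QuotientGroup.eq_one_iff a).mpr this)
    have h3 : L.comap (QuotientGroup.mk' A) ≤ B := by
      intro a ha
      obtain ⟨b, hb, hba⟩ := hLB (mem_comap.mp ha)
      have h4 : b⁻¹ * a ∈ A := QuotientGroup.eq.mp hba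
      have h5 := B.mul_mem hb (hAB.le h4)
      rwa [mul_inv_cancel_left] at h5
    have h4 := hmin _ (hL.comap _) h2 h3
    rw [← h4, Subgroup.map_comap_eq_self_of_surjective (QuotientGroup.mk'_surjective A)]
  obtain ⟨hab, hexp⟩ := elab_of_min ht _ hVp hV0 hVmin
  -- the action
  let φ : H →* MulAut (B.map (QuotientGroup.mk' A)) := (MulAut.conjNormal : (H ⧸ A) →*
    MulAut (B.map (QuotientGroup.mk' A))).comp (QuotientGroup.mk' A)
  obtain ⟨d, hd⟩ := IsPGroup.iff_card.mp hVp
  obtain ⟨eGL⟩ : Nonempty (MulAut (B.map (QuotientGroup.mk' A)) ≃* Matrix.GeneralLinearGroup (Fin d) (ZMod t)) := by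
    let _ : CommGroup (B.map (QuotientGroup.mk' A)) :=
      { (inferInstance : Group (B.map (QuotientGroup.mk' A))) with
        mul_comm := fun a b => Subtype.ext (hab a a.2 b b.2) }
    exact Cfsg.Agent.Lib.ElemAbGL.mulAut_equiv_GL t d (fun a => Subtype.ext (hexp a a.2)) hd
  have hdm : d < m - 2 := by
    have h1 : Nat.card (B.map (QuotientGroup.mk' A)) ≤ Nat.card R :=
      (Nat.le_of_dvd Nat.card_pos (Subgroup.card_map_dvd _ _)).trans (Subgroup.card_le_of_le hBR)
    rw [hd] at h1
    exact (Nat.pow_lt_pow_iff_right ht.one_lt).mp (h1.trans_lt hcard)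
  obtain ⟨g, hg1, hg2⟩ : ∃ g : H, φ g = 1 ∧ π g ≠ 1 := by
    by_contra hcon
    push Not at hcon
    let ρ : H →* Module.End (ZMod t) (Fin d → ZMod t) :=
      ((Matrix.toLinAlgEquiv' : Matrix (Fin d) (Fin d) (ZMod t) ≃ₐ[ZMod t] _).toAlgHom.toRingHom.toMonoidHom.comp
        (Units.coeHom (Matrix (Fin d) (Fin d) (ZMod t)))).comp (eGL.toMonoidHom.comp φ)
    have h1 := Cfsg.Agent.H189.FeitTits.feit_tits (k := ZMod t) t (V := Fin d → ZMod t) hm π hπ ρ (by
      intro g hg
      apply hcon
      apply eGL.injective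
      rw [map_one]
      apply Units.ext
      apply (Matrix.toLinAlgEquiv' : Matrix (Fin d) (Fin d) (ZMod t) ≃ₐ[ZMod t] _).injective
      rw [Units.val_one, map_one]
      exact hg)
    rw [Module.finrank_fin_fun] at h1
    split_ifs at h1 <;> omega
  -- the kernel
  have hKp : p ∣ Nat.card φ.ker := by
    have hsimp : IsSimpleGroup (alternatingGroup (Fin m)) := by
      apply alternatingGroup.isSimpleGroup
      simp only [Nat.card_eq_fintype_card, Fintype.card_fin]
      omega
    have h1 : (φ.ker.map π).Normal := (inferInstance : φ.ker.Normal).map π hπ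
    rcases h1.eq_bot_or_eq_top with h2 | h2
    · exfalso
      apply hg2
      have : π g ∈ φ.ker.map π := ⟨g, hg1, rfl⟩
      rw [h2] at this
      exact mem_bot.mp this
    · have h3 := Subgroup.card_map_dvd φ.ker π
      rw [h2, Subgroup.card_top] at h3
      exact hpm.trans h3
  have hxK := mem_of_normal hp hp2 φ.ker hKp hx
  intro b hb
  have h5 : φ x = 1 := hxK
  have h6 : QuotientGroup.mk' A b ∈ B.map (QuotientGroup.mk' A) := ⟨b, hb, rfl⟩
  have h7 := congrArg (fun f : MulAut (B.map (QuotientGroup.mk' A)) => ((f ⟨_, h6⟩ :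
    B.map (QuotientGroup.mk' A)) : H ⧸ A)) h5
  have h8 : QuotientGroup.mk' A x * QuotientGroup.mk' A b * (QuotientGroup.mk' A x)⁻¹ = QuotientGroup.mk' A b := h7
  have h9 : QuotientGroup.mk' A (x * b * x⁻¹ * b⁻¹) = 1 := by
    rw [map_mul, map_mul, map_mul, map_inv, map_inv, h8, mul_inv_cancel]
  exact (QuotientGroup.eq_one_iff _).mp h9

theorem exists_conj {L : Type*} [Group L] [Finite L] {p : ℕ} (hp : p.Prime) (hp2 : ¬ p ^ 2 ∣ Nat.card L) {x y : L}
    (hx : orderOf x = p) (hy : orderOf y = p) : ∃ (g : L) (j : ℕ), x = g * y ^ j * g⁻¹ := by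
  have hF : Fact p.Prime := ⟨hp⟩
  have h1 : (Nat.card L).factorization p = 1 := by
    have h2 : p ∣ Nat.card L := by rw [← hx]; exact orderOf_dvd_natCard x
    have h3 : 1 ≤ (Nat.card L).factorization p := (hp.dvd_iff_one_le_factorization Nat.card_pos.ne').mp h2
    have h4 : ¬ 2 ≤ (Nat.card L).factorization p := fun h =>
      hp2 ((hp.pow_dvd_iff_le_factorization Nat.card_pos.ne').mpr h)
    omega
  let P : Sylow p L := Sylow.ofCard (zpowers x) (by rw [Nat.card_zpowers, hx, h1, pow_one])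
  let Q : Sylow p L := Sylow.ofCard (zpowers y) (by rw [Nat.card_zpowers, hy, h1, pow_one])
  obtain ⟨g, hg⟩ := MulAction.exists_smul_eq L Q P
  have h2 : x ∈ (g • Q : Sylow p L) := by
    rw [hg]
    exact mem_zpowers x
  have h3 : x ∈ MulAut.conj g • (Q : Subgroup L) := h2
  rw [Subgroup.mem_pointwise_smul_iff_inv_smul_mem] at h3
  have h4 : (MulAut.conj g)⁻¹ • x ∈ zpowers y := h3
  have h5 : (MulAut.conj g)⁻¹ • x = g⁻¹ * x * g := by
    rw [MulAut.smul_def, ← map_inv, MulAut.conj_apply, inv_inv]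
  rw [h5] at h4
  obtain ⟨j, hj⟩ := (mem_powers_iff_mem_zpowers (x := y)).mpr h4
  refine ⟨g, j, ?_⟩
  have hj' : y ^ j = g⁻¹ * x * g := hj
  rw [hj']
  group

theorem centralizes_ker {L : Type*} [Group L] [Finite L] {m p : ℕ} (hm : 9 ≤ m)
    (π : L →* alternatingGroup (Fin m)) (hπ : Function.Surjective π) (hp : p.Prime)
    (hpm : p ∣ Nat.card (alternatingGroup (Fin m))) (hp2 : ¬ p ^ 2 ∣ Nat.card L)
    (hv : ∀ t : ℕ, t.Prime → (Nat.card π.ker).factorization t < m - 2) (x : L) (hx : orderOf x = p) :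
    ∀ y ∈ π.ker, x * y = y * x := by
  have hpF : Fact p.Prime := ⟨hp⟩
  have hpN : ¬ p ∣ Nat.card π.ker := by
    intro h
    apply hp2
    have h1 := π.ker.card_mul_index
    rw [Subgroup.index_ker, MonoidHom.range_eq_top.mpr hπ, Subgroup.card_top] at h1
    rw [← h1, pow_two]
    exact Nat.mul_dvd_mul h hpm
  -- the full Sylow subgroups
  have hfull : ∀ t : ℕ, t.Prime → t ^ (Nat.card π.ker).factorization t ∣
      Nat.card ((centralizer ({x} : Set L)) ⊓ π.ker : Subgroup L) := by
    intro t ht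
    have htF : Fact t.Prime := ⟨ht⟩
    by_cases htN : t ∣ Nat.card π.ker
    swap
    · rw [Nat.factorization_eq_zero_of_not_dvd htN, pow_zero]
      exact one_dvd _
    have hpt : p ≠ t := fun h => hpN (h ▸ htN)
    let R : Sylow t π.ker := default
    have hRc : Nat.card (R.1.map π.ker.subtype) = t ^ (Nat.card π.ker).factorization t := by
      rw [Subgroup.card_map_of_injective π.ker.subtype_injective]
      exact R.card_eq_multiplicity
    have hfr := R.normalizer_sup_eq_top
    have hRN : R.1.map π.ker.subtype ≤ π.ker := Subgroup.map_subtype_le _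
    -- the normalizer
    have hle : R.1.map π.ker.subtype ≤ normalizer ((R.1.map π.ker.subtype : Subgroup L) : Set L) := le_normalizer
    have hHs : Function.Surjective (π.comp (normalizer ((R.1.map π.ker.subtype : Subgroup L) : Set L)).subtype) := by
      intro a
      obtain ⟨l, rfl⟩ := hπ a
      have hl : l ∈ normalizer ((R.1.map π.ker.subtype : Subgroup L) : Set L) ⊔ π.ker := by
        rw [hfr]
        exact mem_top l
      rw [sup_comm] at hl
      obtain ⟨u, hu, w, hw, rfl⟩ := mem_sup_of_normal_left.mp hl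
      refine ⟨⟨w, hw⟩, ?_⟩
      rw [map_mul, show π u = 1 from hu, one_mul]
      rfl
    have hHp2 : ¬ p ^ 2 ∣ Nat.card (normalizer ((R.1.map π.ker.subtype : Subgroup L) : Set L)) := fun h =>
      hp2 (h.trans (Subgroup.card_subgroup_dvd_card _))
    have hHp : p ∣ Nat.card (normalizer ((R.1.map π.ker.subtype : Subgroup L) : Set L)) := by
      have h1 := Subgroup.card_range_dvd (π.comp (normalizer ((R.1.map π.ker.subtype : Subgroup L) : Set L)).subtype)
      rw [MonoidHom.range_eq_top.mpr hHs, Subgroup.card_top] at h1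
      exact hpm.trans h1
    obtain ⟨y, hy⟩ := exists_prime_orderOf_dvd_card' p hHp
    have hcc := centralizes_pgroup ht hm
      ((R.1.map π.ker.subtype).subgroupOf (normalizer ((R.1.map π.ker.subtype : Subgroup L) : Set L)))
      ((R.2.map _).comap_subtype) (by
        rw [Nat.card_congr (Subgroup.subgroupOfEquivOfLe hle).toEquiv, hRc]
        exact Nat.pow_lt_pow_right ht.one_lt (hv t ht)) _ hHs hp hpt hpm hHp2 y hy
    have hyL : orderOf (y : L) = p := by rw [Subgroup.orderOf_coe]; exact hy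
    have hcy : ∀ r ∈ R.1.map π.ker.subtype, (y : L) * r = r * y := by
      intro r hr
      have h1 := hcc ⟨r, hle hr⟩ (mem_subgroupOf.mpr hr)
      have h2 : (y : L) * r * (y : L)⁻¹ * r⁻¹ = 1 := congrArg Subtype.val h1
      calc (y : L) * r = (y : L) * r * (y : L)⁻¹ * r⁻¹ * (r * y) := by group
        _ = r * y := by rw [h2, one_mul]
    obtain ⟨g, j, hgj⟩ := exists_conj hp hp2 hx hyL
    -- the conjugate of `R`
    have h6 : (R.1.map π.ker.subtype).map (MulAut.conj g).toMonoidHom ≤ centralizer ({x} : Set L) ⊓ π.ker := by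
      rintro z ⟨r, hr, rfl⟩
      refine mem_inf.mpr ⟨?_, ?_⟩
      · rw [mem_centralizer_singleton_iff]
        change (g * r * g⁻¹) * x = x * (g * r * g⁻¹)
        have h7 : Commute (y : L) r := hcy r hr
        have h8 := (h7.pow_left j).eq
        rw [hgj]
        calc g * r * g⁻¹ * (g * (y : L) ^ j * g⁻¹) = g * (r * (y : L) ^ j) * g⁻¹ := by group
          _ = g * ((y : L) ^ j * r) * g⁻¹ := by rw [h8]
          _ = _ := by group
      · exact (inferInstance : π.ker.Normal).conj_mem r (hRN hr) g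
    have h7 := Subgroup.card_dvd_of_le h6
    rwa [Subgroup.card_map_of_injective (MulAut.conj g).injective, hRc] at h7
  have hdvd : Nat.card π.ker ∣ Nat.card ((centralizer ({x} : Set L)) ⊓ π.ker : Subgroup L) := by
    rw [← Nat.factorization_le_iff_dvd Nat.card_pos.ne' Nat.card_pos.ne']
    intro t
    by_cases ht : t.Prime
    · exact (ht.pow_dvd_iff_le_factorization Nat.card_pos.ne').mp (hfull t ht)
    · rw [Nat.factorization_eq_zero_of_not_prime _ ht]
      exact Nat.zero_le _
  have heq : (centralizer ({x} : Set L)) ⊓ π.ker = π.ker :=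
    Subgroup.eq_of_le_of_card_ge inf_le_right (Nat.le_of_dvd Nat.card_pos hdvd)
  intro y hy
  rw [← heq] at hy
  exact (mem_centralizer_singleton_iff.mp (mem_inf.mp hy).1).symm

end Cfsg.Agent.H427.Cs
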