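import Mathlib
import Cfsg.Agent.H427.CsPerm
import Cfsg.Agent.H363.AltPrimes

/-!
# Groups with the order and the class sizes of a symmetric or alternating group (helper427)

`Hyp G n`: the facts used; `good_of_start`: centralizers of elements of large prime order are small.
-/

set_option autoImplicit false

namespace Cfsg.Agent.H427.Cs

open Subgroup Nat

/-- the order of the centralizer -/
noncomputable abbrev cc {G : Type*} [Group G] (g : G) : ℕ := Nat.card (centralizer ({g} : Set G))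

/-- what is used about a group with the order and the class sizes of `S_n` or `A_n` -/
structure Hyp (G : Type*) [Group G] (n : ℕ) : Prop where
  card : ∃ c, c ∣ 2 ∧ c * Nat.card G = n.factorial
  dich : ∀ r : ℕ, r.Prime → n < 2 * r → r ≤ n → ∀ g : G, r ∣ cc g → cc g ∣ r * (n - r)! ∨ r ! / 2 ∣ cc g
  exs : ∀ r : ℕ, r.Prime → Odd r → n < 2 * r → r ≤ n → ∀ l : Finset ℕ, (∀ i ∈ l, Odd i ∧ 3 ≤ i) → r ∉ l →
    ∑ i ∈ l, i + r ≤ n → n ≤ ∑ i ∈ l, i + r + 1 → ∃ g : G, cc g = r * ∏ i ∈ l, i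
  ex0 : ∀ r : ℕ, r.Prime → Odd r → n < 2 * r → r ≤ n → ∃ g : G, r ∣ cc g ∧ cc g ∣ r * (n - r)!

theorem cc_of_index {G H : Type*} [Group G] [Group H] [Finite G] [Finite H] (hc : Nat.card G = Nat.card H) {g : G} {h : H}
    (he : (centralizer ({g} : Set G)).index = (centralizer ({h} : Set H)).index) : cc g = cc h := by
  have h1 := (centralizer ({g} : Set G)).card_mul_index
  have h2 := (centralizer ({h} : Set H)).card_mul_index
  rw [he, hc, ← h2] at h1
  exact Nat.eq_of_mul_eq_mul_right (Nat.pos_of_ne_zero (centralizer ({h} : Set H)).index_ne_zero_of_finite) h1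

theorem exists_of_range {G H : Type*} [Group G] [Group H] [Finite G] [Finite H] (hc : Nat.card G = Nat.card H)
    (hr : Set.range (fun g : G => (centralizer ({g} : Set G)).index) =
      Set.range (fun g : H => (centralizer ({g} : Set H)).index)) (g : G) : ∃ h : H, cc g = cc h := by
  have h1 : (centralizer ({g} : Set G)).index ∈ Set.range (fun g : H => (centralizer ({g} : Set H)).index) := by
    rw [← hr]
    exact ⟨g, rfl⟩
  obtain ⟨h, hh⟩ := h1
  exact ⟨h, cc_of_index hc hh.symm⟩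

theorem ex0_perm {n r : ℕ} (hr : r.Prime) (hodd : Odd r) (hrn : r ≤ n) : ∃ σ : Equiv.Perm (Fin n),
    σ ∈ alternatingGroup (Fin n) ∧ orderOf σ = r ∧ cc σ = r * (n - r)! := by
  obtain ⟨σ, hσ⟩ := (Equiv.Perm.exists_with_cycleType_iff (Fin n) (m := {r})).mpr
    ⟨by rw [Fintype.card_fin, Multiset.sum_singleton]; exact hrn, by
      intro a ha
      rw [Multiset.mem_singleton] at ha
      subst ha
      exact hr.two_le⟩
  have ho : orderOf σ = r := by
    rw [← Equiv.Perm.lcm_cycleType, hσ, Multiset.lcm_singleton]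
    simp
  refine ⟨σ, ?_, ho, ?_⟩
  · rw [Equiv.Perm.mem_alternatingGroup]
    have h5 : Equiv.Perm.sign σ ^ orderOf σ = 1 := by
      rw [← map_pow, pow_orderOf_eq_one, map_one]
    rcases Int.units_eq_one_or (Equiv.Perm.sign σ) with h6 | h6
    · exact h6
    · rw [h6, ho, hodd.neg_one_pow] at h5
      exact absurd h5 (by decide)
  · unfold cc
    rw [Equiv.Perm.nat_card_centralizer, hσ, Fintype.card_fin, Multiset.sum_singleton, Multiset.prod_singleton,
      Multiset.toFinset_singleton, Finset.prod_singleton, Multiset.count_singleton_self, Nat.factorial_one, mul_one,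
      mul_comm]

theorem hyp_of_perm {G : Type*} [Group G] [Finite G] {n : ℕ} (hc : Nat.card G = Nat.card (Equiv.Perm (Fin n)))
    (hr : Set.range (fun g : G => (centralizer ({g} : Set G)).index) =
      Set.range (fun g : Equiv.Perm (Fin n) => (centralizer ({g} : Set (Equiv.Perm (Fin n)))).index)) : Hyp G n where
  card := ⟨1, one_dvd _, by rw [one_mul, hc, Nat.card_eq_fintype_card, Fintype.card_perm, Fintype.card_fin]⟩
  dich := by
    intro r hr' h1 h2 g hg
    obtain ⟨σ, hσ⟩ := exists_of_range hc hr g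
    rw [hσ] at hg ⊢
    rcases perm_dich hr' h1 σ hg with h | h
    · exact Or.inl h
    · exact Or.inr ((Nat.div_dvd_of_dvd (Nat.dvd_factorial two_pos hr'.two_le)).trans h)
  exs := by
    intro r hr' hodd h1 h2 l hl hrl h3 h4
    have : r ≠ 2 := by rintro rfl; exact absurd hodd (by decide)
    obtain ⟨σ, hσ, _⟩ := perm_exists hodd (by have := hr'.two_le; omega) l hl hrl h3 h4
    obtain ⟨g, hg⟩ := exists_of_range hc.symm hr.symm σ
    exact ⟨g, by rw [← hg]; exact hσ⟩
  ex0 := by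
    intro r hr' hodd h1 h2
    obtain ⟨σ, _, _, hσ⟩ := ex0_perm hr' hodd h2
    obtain ⟨g, hg⟩ := exists_of_range hc.symm hr.symm σ
    exact ⟨g, by rw [← hg, hσ]; exact Nat.dvd_mul_right _ _, by rw [← hg, hσ]⟩

theorem hyp_of_alt {G : Type*} [Group G] [Finite G] {n : ℕ} (hn : 2 ≤ n)
    (hc : Nat.card G = Nat.card (alternatingGroup (Fin n)))
    (hr : Set.range (fun g : G => (centralizer ({g} : Set G)).index) =
      Set.range (fun g : alternatingGroup (Fin n) => (centralizer ({g} : Set (alternatingGroup (Fin n)))).index)) :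
    Hyp G n where
  card := ⟨2, dvd_rfl, by rw [hc, Cfsg.Agent.H363.AltPrimes.card_alternating hn]⟩
  dich := by
    intro r hr' h1 h2 g hg
    obtain ⟨σ, hσ⟩ := exists_of_range hc hr g
    rw [hσ] at hg ⊢
    exact alt_dich hr' h1 σ hg
  exs := by
    intro r hr' hodd h1 h2 l hl hrl h3 h4
    have : r ≠ 2 := by rintro rfl; exact absurd hodd (by decide)
    obtain ⟨σ, hσ⟩ := alt_exists hodd (by have := hr'.two_le; omega) l hl hrl h3 h4
    obtain ⟨g, hg⟩ := exists_of_range hc.symm hr.symm σ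
    exact ⟨g, by rw [← hg]; exact hσ⟩
  ex0 := by
    intro r hr' hodd h1 h2
    obtain ⟨σ, hσA, ho, hσ⟩ := ex0_perm hr' hodd h2
    obtain ⟨g, hg⟩ := exists_of_range hc.symm hr.symm (⟨σ, hσA⟩ : alternatingGroup (Fin n))
    refine ⟨g, ?_, ?_⟩
    · rw [← hg]
      have h3 : zpowers (⟨σ, hσA⟩ : alternatingGroup (Fin n)) ≤
          centralizer ({(⟨σ, hσA⟩ : alternatingGroup (Fin n))} : Set (alternatingGroup (Fin n))) := by
        rw [zpowers_le, mem_centralizer_singleton_iff]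
      have h4 := Subgroup.card_dvd_of_le h3
      rwa [Nat.card_zpowers, Subgroup.orderOf_mk, ho] at h4
    · rw [← hg]
      obtain ⟨j, _, hj⟩ := card_alt_centralizer (⟨σ, hσA⟩ : alternatingGroup (Fin n))
      rw [← hσ]
      exact ⟨j, hj⟩

variable {G : Type*} [Group G] [Finite G] {n : ℕ}

omit [Finite G] in
theorem Hyp.card_dvd (h : Hyp G n) : Nat.card G ∣ n ! := by
  obtain ⟨c, _, hc⟩ := h.card
  exact ⟨c, by rw [← hc, mul_comm]⟩

omit [Finite G] in
theorem Hyp.sq_not_dvd (h : Hyp G n) {r : ℕ} (hr : r.Prime) (h1 : n < 2 * r) (h2 : r ≤ n) : ¬ r ^ 2 ∣ Nat.card G := by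
  intro h3
  have h4 := h3.trans h.card_dvd
  rw [hr.pow_dvd_iff_le_factorization n.factorial_ne_zero,
    Cfsg.Agent.H363.AltPrimes.factorization_factorial hr h2 h1] at h4
  omega

theorem dvd_cc_self (x : G) : orderOf x ∣ cc x := by
  have h3 : zpowers x ≤ centralizer ({x} : Set G) := by
    rw [zpowers_le, mem_centralizer_singleton_iff]
  have h4 := Subgroup.card_dvd_of_le h3
  rwa [Nat.card_zpowers] at h4

/-- **Elements of large prime order have small centralizers.** -/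
theorem Hyp.good_of_start (h : Hyp G n) (hn : 5 ≤ n) {r₁ : ℕ} (hr₁ : r₁.Prime) (h1 : n < 2 * r₁) (h1n : r₁ ≤ n)
    (hsize : 4 * (n ! * (r₁ * (n - r₁)!)) < (r₁ !) ^ 2) {g : G} (hg : r₁ ∣ cc g) (hgI : cc g ∣ r₁ * (n - r₁)!)
    (hq : ∀ q : ℕ, q.Prime → q ∣ cc g → (q ^ 2 ∣ r₁ ! / 2 → q ^ 2 ∣ r₁ * (n - r₁)!) →
      (∀ s : ℕ, s.Prime → n < 2 * s → s < r₁ → q ∣ s - 1) → False)
    {r₀ : ℕ} (hr₀ : r₀.Prime) (h01 : r₁ ≤ r₀) (h0n : r₀ ≤ n) (x : G) (hx : orderOf x = r₀) :
    cc x ∣ r₀ * (n - r₀)! := by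
  have h2r : n < 2 * r₀ := by omega
  rcases h.dich r₀ hr₀ h2r h0n x (hx ▸ dvd_cc_self x) with hI | hII
  · exact hI
  exfalso
  -- an element of order `r₁` with large centralizer
  have key : ∃ y : G, orderOf y = r₁ ∧ r₁ ! / 2 ∣ cc y := by
    rcases Nat.eq_or_lt_of_le h01 with h2 | h2
    · subst h2
      exact ⟨x, hx, hII⟩
    have hr₁2 : r₁ ≠ 2 := by omega
    have h3 : r₁ ∣ r₀ ! / 2 := by
      have h4 : r₁ ∣ r₀ ! := Nat.dvd_factorial hr₁.pos h2.le
      obtain ⟨k, hk⟩ : 2 ∣ r₀ ! := Nat.dvd_factorial two_pos hr₀.two_le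
      rw [hk, Nat.mul_div_cancel_left _ two_pos]
      rw [hk] at h4
      exact (((Nat.coprime_primes hr₁ Nat.prime_two).mpr hr₁2).dvd_of_dvd_mul_left h4)
    have : Fact r₁.Prime := ⟨hr₁⟩
    obtain ⟨y, hy⟩ := exists_prime_orderOf_dvd_card' r₁ (h3.trans hII)
    have hyo : orderOf (y : G) = r₁ := by rw [← hy]; exact Subgroup.orderOf_coe y
    refine ⟨y, hyo, ?_⟩
    have hxy : x ∈ centralizer ({(y : G)} : Set G) := by
      rw [mem_centralizer_singleton_iff]
      exact (mem_centralizer_singleton_iff.mp y.2).symm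
    have h5 : r₀ ∣ cc (y : G) := by
      have h6 := orderOf_dvd_natCard (⟨x, hxy⟩ : centralizer ({(y : G)} : Set G))
      rwa [Subgroup.orderOf_mk, hx] at h6
    rcases h.dich r₁ hr₁ h1 h1n y (hyo ▸ dvd_cc_self (y : G)) with h6 | h6
    · exfalso
      rcases hr₀.dvd_mul.mp (h5.trans h6) with h7 | h7
      · exact h2.ne ((Nat.prime_dvd_prime_iff_eq hr₀ hr₁).mp h7).symm
      · have := hr₀.dvd_factorial.mp h7
        omega
    · exact h6
  obtain ⟨y, hy, hyII⟩ := key
  have heven : 2 ∣ r₁ ! := Nat.dvd_factorial two_pos hr₁.two_le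
  have hb : r₁ ! = 2 * (r₁ ! / 2) := (Nat.mul_div_cancel' heven).symm
  have hsz : Nat.card G * (r₁ * (n - r₁)!) < (r₁ ! / 2) ^ 2 := by
    have h3 : Nat.card G ≤ n ! := Nat.le_of_dvd n.factorial_pos h.card_dvd
    have h4 : Nat.card G * (r₁ * (n - r₁)!) ≤ n ! * (r₁ * (n - r₁)!) := Nat.mul_le_mul_right _ h3
    have h5 : (r₁ !) ^ 2 = 4 * (r₁ ! / 2) ^ 2 := by
      conv_lhs => rw [hb]
      ring
    omega
  obtain ⟨q, hqp, hqg, hq2, hqs⟩ := exists_prime_of_large hr₁ (h.sq_not_dvd hr₁ h1 h1n) (Nat.factorial_pos (n - r₁))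
    (fun g hg => h.dich r₁ hr₁ h1 h1n g hg) hsz hy hyII hg hgI
  refine hq q hqp hqg hq2 fun s hs hs1 hs2 => ?_
  apply hqs s hs
  · have h4 : s ∣ r₁ ! := Nat.dvd_factorial hs.pos hs2.le
    rw [hb] at h4
    exact (((Nat.coprime_primes hs Nat.prime_two).mpr (by omega)).dvd_of_dvd_mul_left h4)
  · intro h4
    rcases hs.dvd_mul.mp h4 with h5 | h5
    · exact hs2.ne ((Nat.prime_dvd_prime_iff_eq hs hr₁).mp h5)
    · have := hs.dvd_factorial.mp h5
      omega
  · exact h.sq_not_dvd hs hs1 (by omega)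

open Cfsg.Agent.H363.Frat in
/-- a small centralizer gives non-adjacency -/
theorem nonAdj_of_good {r₀ t : ℕ} (hr₀ : r₀.Prime) (ht : t.Prime) (hne : r₀ ≠ t) (h1 : n < r₀ + t)
    (hg : ∀ x : G, orderOf x = r₀ → cc x ∣ r₀ * (n - r₀)!) : NonAdj G r₀ t := by
  intro g hgo
  have h2 : orderOf (g ^ t) = r₀ := by
    rw [orderOf_pow' g ht.ne_zero, hgo, Nat.gcd_eq_right (Dvd.intro_left r₀ rfl)]
    exact Nat.mul_div_cancel _ ht.pos
  have h3 := hg _ h2
  have h4 : t ∣ cc (g ^ t) := by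
    have hgc : g ∈ centralizer ({g ^ t} : Set G) := by
      rw [mem_centralizer_singleton_iff]
      exact (Commute.refl g).pow_right t
    have h6 := orderOf_dvd_natCard (⟨g, hgc⟩ : centralizer ({g ^ t} : Set G))
    rw [Subgroup.orderOf_mk, hgo] at h6
    exact (Dvd.intro_left r₀ rfl).trans h6
  rcases ht.dvd_mul.mp (h4.trans h3) with h5 | h5
  · exact hne ((Nat.prime_dvd_prime_iff_eq ht hr₀).mp h5).symm
  · have := ht.dvd_factorial.mp h5
    have := ht.two_le
    omega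

end Cfsg.Agent.H427.Cs
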