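import Mathlib
import Cfsg.Agent.H427.CsHyp

/-!
# Arithmetic for large primes: size and coprime summands (helper427)
-/

set_option autoImplicit false

namespace Cfsg.Agent.H427.Cs

open Nat

theorem factorial_add_le (r k : ℕ) : (r + k)! ≤ r ! * (r + k) ^ k := by
  induction k with
  | zero => simp
  | succ k ih =>
    rw [← Nat.add_assoc, Nat.factorial_succ, pow_succ]
    calc (r + k + 1) * (r + k)! ≤ (r + k + 1) * (r ! * (r + k) ^ k) := Nat.mul_le_mul_left _ ih
      _ ≤ (r + k + 1) * (r ! * (r + k + 1) ^ k) :=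
        Nat.mul_le_mul_left _ (Nat.mul_le_mul_left _ (Nat.pow_le_pow_left (Nat.le_succ _) k))
      _ = r ! * ((r + k + 1) ^ k * (r + k + 1)) := by ring

theorem le_factorial_add (r k : ℕ) : r ! * r ^ k ≤ (r + k)! := by
  induction k with
  | zero => simp
  | succ k ih =>
    rw [← Nat.add_assoc, Nat.factorial_succ, pow_succ]
    calc r ! * (r ^ k * r) = r * (r ! * r ^ k) := by ring
      _ ≤ r * (r + k)! := Nat.mul_le_mul_left _ ih
      _ ≤ (r + k + 1) * (r + k)! := Nat.mul_le_mul_right _ (by omega)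

theorem lt_factorial {u : ℕ} (hu : 5 ≤ u) : 16 * u < u ! := by
  obtain ⟨v, rfl⟩ := Nat.exists_eq_add_of_le' (show 1 ≤ u by omega)
  rw [Nat.factorial_succ]
  have h1 : 4 ! ≤ v ! := Nat.factorial_le (by omega)
  have h2 : 4 ! = 24 := rfl
  nlinarith

/-- **The size condition** for `r > 4 n / 5`. -/
theorem size_of_large {n r : ℕ} (hr : 20 ≤ r) (h1 : 4 * n < 5 * r) (h2 : r ≤ n) :
    4 * (n ! * (r * (n - r)!)) < (r !) ^ 2 := by
  obtain ⟨k, rfl⟩ := Nat.exists_eq_add_of_le h2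
  rw [Nat.add_sub_cancel_left]
  have hk : 4 * k < r := by omega
  -- `r = u + 3 k`
  obtain ⟨u, rfl⟩ := Nat.exists_eq_add_of_le' (show 3 * k ≤ r by omega)
  have hu : u + 3 * k < 4 * u := by omega
  have hu5 : 5 ≤ u := by omega
  set R := u + 3 * k with hR
  have e1 : (R + k)! ≤ R ! * (R + k) ^ k := factorial_add_le R k
  have e2 : k ! ≤ k ^ k := Nat.factorial_le_pow k
  have e3 : u ! * u ^ (3 * k) ≤ R ! := le_factorial_add u (3 * k)
  have e4 : 16 * u < u ! := lt_factorial hu5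
  have hupos : 0 < u := by omega
  have hRpos : 0 < R := by omega
  -- main estimate, multiplied by `64 ^ k`
  have e5 : 64 ^ k * (4 * (R * ((R + k) ^ k * k ^ k))) < 64 ^ k * R ! := by
    have f1 : 64 ^ k * (4 * (R * ((R + k) ^ k * k ^ k))) = 4 * R * (4 ^ k * ((4 * (R + k)) ^ k * (4 * k) ^ k)) := by
      rw [mul_pow, mul_pow, show (64 : ℕ) = 4 * (4 * 4) by norm_num, mul_pow, mul_pow]
      ring
    have f2 : 4 ^ k * ((4 * (R + k)) ^ k * (4 * k) ^ k) ≤ 4 ^ k * ((5 * R) ^ k * R ^ k) :=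
      Nat.mul_le_mul_left _ (Nat.mul_le_mul (Nat.pow_le_pow_left (by omega) k) (Nat.pow_le_pow_left (by omega) k))
    have f3 : 4 ^ k * ((5 * R) ^ k * R ^ k) ≤ R ^ (3 * k) := by
      have : 4 ^ k * ((5 * R) ^ k * R ^ k) = (20 * R ^ 2) ^ k := by
        rw [← mul_pow, ← mul_pow]
        congr 1
        ring
      rw [this, pow_mul]
      apply Nat.pow_le_pow_left
      calc 20 * R ^ 2 ≤ R * R ^ 2 := Nat.mul_le_mul_right _ (by omega)
        _ = R ^ 3 := by ring
    have f4 : R ^ (3 * k) ≤ 64 ^ k * u ^ (3 * k) := by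
      have : (64 : ℕ) ^ k * u ^ (3 * k) = (4 * u) ^ (3 * k) := by
        rw [mul_pow, pow_mul 4 3 k]
        norm_num
      rw [this]
      exact Nat.pow_le_pow_left hu.le _
    calc 64 ^ k * (4 * (R * ((R + k) ^ k * k ^ k))) = 4 * R * (4 ^ k * ((4 * (R + k)) ^ k * (4 * k) ^ k)) := f1
      _ ≤ 4 * R * (64 ^ k * u ^ (3 * k)) := Nat.mul_le_mul_left _ (f2.trans (f3.trans f4))
      _ < u ! * (64 ^ k * u ^ (3 * k)) := by
        apply Nat.mul_lt_mul_of_pos_right _ (by positivity)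
        omega
      _ = 64 ^ k * (u ! * u ^ (3 * k)) := by ring
      _ ≤ 64 ^ k * R ! := Nat.mul_le_mul_left _ e3
  have e6 : 4 * (R * ((R + k) ^ k * k ^ k)) < R ! := Nat.lt_of_mul_lt_mul_left e5
  calc 4 * ((R + k)! * (R * k !)) ≤ 4 * ((R ! * (R + k) ^ k) * (R * k ^ k)) :=
        Nat.mul_le_mul_left _ (Nat.mul_le_mul e1 (Nat.mul_le_mul_left _ e2))
    _ = R ! * (4 * (R * ((R + k) ^ k * k ^ k))) := by ring
    _ < R ! * R ! := Nat.mul_lt_mul_of_pos_left e6 R.factorial_pos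
    _ = (R !) ^ 2 := by ring

/-- two summands prime to `D` -/
theorem exists_coprime_pair {D k : ℕ} (hD : 2 ≤ D) (hD2 : Even D) (hk : Even k) (h6 : 6 * D ≤ k) :
    ∃ i, 3 ≤ i ∧ i < k - i ∧ i ≤ k ∧ Odd i ∧ Odd (k - i) ∧ Nat.Coprime i D ∧ Nat.Coprime (k - i) D := by
  classical
  have hD0 : D ≠ 0 := by omega
  have pp : Set.Pairwise (D.primeFactors : Set ℕ) (Function.onFun Nat.Coprime fun q => q) := by
    intro a ha b hb hab
    exact (Nat.coprime_primes (Nat.prime_of_mem_primeFactors ha) (Nat.prime_of_mem_primeFactors hb)).mpr hab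
  have hne : ∀ i ∈ D.primeFactors, (fun q : ℕ => q) i ≠ 0 := fun i hi => (Nat.prime_of_mem_primeFactors hi).ne_zero
  obtain ⟨i₀, hi₀⟩ := Nat.chineseRemainderOfFinset (fun q => if q ∣ k - 1 then q - 1 else 1) (fun q : ℕ => q)
    D.primeFactors hne pp
  have hlt : i₀ % D < D := Nat.mod_lt _ (by omega)
  have key : ∀ q : ℕ, q.Prime → q ∣ D → ¬ q ∣ (i₀ % D + 2 * D) ∧ ¬ q ∣ k - (i₀ % D + 2 * D) := by
    intro q hq hqD
    have h1 := hi₀ q (Nat.mem_primeFactors.mpr ⟨hq, hqD, hD0⟩)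
    have h2 : i₀ % D + 2 * D ≡ (if q ∣ k - 1 then q - 1 else 1) [MOD q] := by
      have h3 : i₀ % D ≡ i₀ [MOD q] := (Nat.mod_modEq i₀ D).of_dvd hqD
      have h4 : 2 * D ≡ 0 [MOD q] := (Nat.modEq_zero_iff_dvd).mpr (hqD.mul_left 2)
      exact (h3.add h4).trans h1
    have hq2 := hq.two_le
    have hle : i₀ % D + 2 * D ≤ k := by omega
    by_cases hqk : q ∣ k - 1
    · rw [if_pos hqk] at h2
      have hq3 : q ≠ 2 := by
        rintro rfl
        have h5 : Even (k - 1) := even_iff_two_dvd.mpr hqk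
        obtain ⟨a, ha⟩ := hk
        obtain ⟨b, hb⟩ := h5
        omega
      constructor
      · intro h5
        have h6 : q ∣ q - 1 := (Nat.ModEq.dvd_iff h2 dvd_rfl).mp h5
        have := Nat.le_of_dvd (by omega) h6
        omega
      · intro h5
        -- `k = (k - i) + i ≡ -1`, and `k ≡ 1`
        have h6 : k ≡ q - 1 [MOD q] := by
          have h7 : k - (i₀ % D + 2 * D) ≡ 0 [MOD q] := (Nat.modEq_zero_iff_dvd).mpr h5
          have h8 := h7.add h2
          rwa [Nat.sub_add_cancel hle, zero_add] at h8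
        have h7 : k ≡ 1 [MOD q] := ((Nat.modEq_iff_dvd' (by omega)).mpr hqk).symm
        have h8 : (1 : ℕ) ≡ q - 1 [MOD q] := h7.symm.trans h6
        have h9 : q ∣ q - 1 - 1 := (Nat.modEq_iff_dvd' (by omega)).mp h8
        have h10 : q - 1 - 1 = 0 ∨ q ≤ q - 1 - 1 := by
          rcases Nat.eq_zero_or_pos (q - 1 - 1) with h | h
          · exact Or.inl h
          · exact Or.inr (Nat.le_of_dvd h h9)
        omega
    · rw [if_neg hqk] at h2
      constructor
      · intro h5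
        have h6 : q ∣ 1 := (Nat.ModEq.dvd_iff h2 dvd_rfl).mp h5
        have := Nat.le_of_dvd one_pos h6
        omega
      · intro h5
        apply hqk
        have h7 : k - (i₀ % D + 2 * D) ≡ 0 [MOD q] := (Nat.modEq_zero_iff_dvd).mpr h5
        have h8 := h7.add h2
        rw [Nat.sub_add_cancel hle, zero_add] at h8
        exact (Nat.modEq_iff_dvd' (by omega)).mp h8.symm
  have hc : ∀ a : ℕ, (∀ q : ℕ, q.Prime → q ∣ D → ¬ q ∣ a) → Nat.Coprime a D := by
    intro a ha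
    apply Nat.Coprime.symm
    apply Nat.coprime_of_dvd
    intro q hq hqD hqa
    exact ha q hq hqD hqa
  have hodd : ∀ a : ℕ, Nat.Coprime a D → Odd a := by
    intro a ha
    by_contra hcon
    rw [Nat.not_odd_iff_even] at hcon
    have h1 : 2 ∣ Nat.gcd a D := Nat.dvd_gcd hcon.two_dvd hD2.two_dvd
    rw [ha.gcd_eq_one] at h1
    omega
  have c1 := hc _ fun q hq hqD => (key q hq hqD).1
  have c2 := hc _ fun q hq hqD => (key q hq hqD).2
  exact ⟨i₀ % D + 2 * D, by omega, by omega, by omega, hodd _ c1, hodd _ c2, c1, c2⟩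

end Cfsg.Agent.H427.Cs
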