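import Mathlib
import Cfsg.Agent.H427.CsNum
import Cfsg.Agent.H357.NT

/-!
# Good primes (helper427)
-/

set_option autoImplicit false

namespace Cfsg.Agent.H427.Cs

open Subgroup Nat

variable {G : Type*} [Group G] [Finite G] {n : ℕ}

/-- the elements of order `r` have small centralizers -/
def Good (G : Type*) [Group G] (n r : ℕ) : Prop := ∀ x : G, orderOf x = r → cc x ∣ r * (n - r)!

theorem Hyp.start_table (h : Hyp G n) (hn : 5 ≤ n) {s t r₁ : ℕ} (hs : s.Prime) (ht : t.Prime) (hr₁ : r₁.Prime)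
    (h1 : n < 2 * s) (h2 : s < t) (h3 : t < r₁) (h1n : r₁ ≤ n) (hsize : 4 * (n ! * (r₁ * (n - r₁)!)) < (r₁ !) ^ 2)
    (hgcd : Nat.gcd (s - 1) (t - 1) = 2) (hk : n - r₁ ≠ 2) {r₀ : ℕ} (hr₀ : r₀.Prime) (h01 : r₁ ≤ r₀) (h0n : r₀ ≤ n) :
    Good G n r₀ := by
  have hodd : Odd r₁ := hr₁.odd_of_ne_two (by omega)
  obtain ⟨l, hl1, hl2, hl3⟩ : ∃ l : Finset ℕ, (∀ i ∈ l, Odd i ∧ 3 ≤ i ∧ i ≤ n - r₁) ∧ ∑ i ∈ l, i + r₁ ≤ n ∧
      n ≤ ∑ i ∈ l, i + r₁ + 1 := by
    rcases Nat.lt_or_ge (n - r₁) 2 with h4 | h4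
    · exact ⟨∅, by simp, by simpa using h1n, by simp; omega⟩
    · rcases Nat.even_or_odd (n - r₁) with h5 | h5
      · have h6 : 4 ≤ n - r₁ := by
          obtain ⟨a, ha⟩ := h5
          omega
        refine ⟨{n - r₁ - 1}, ?_, ?_, ?_⟩
        · intro i hi
          rw [Finset.mem_singleton] at hi
          subst hi
          refine ⟨?_, by omega, by omega⟩
          obtain ⟨a, ha⟩ := h5
          exact ⟨a - 1, by omega⟩
        · rw [Finset.sum_singleton]; omega
        · rw [Finset.sum_singleton]; omega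
      · have h6 : 3 ≤ n - r₁ := by
          obtain ⟨a, ha⟩ := h5
          omega
        refine ⟨{n - r₁}, ?_, ?_, ?_⟩
        · intro i hi
          rw [Finset.mem_singleton] at hi
          subst hi
          exact ⟨h5, h6, le_rfl⟩
        · rw [Finset.sum_singleton]; omega
        · rw [Finset.sum_singleton]; omega
  obtain ⟨g, hg⟩ := h.exs r₁ hr₁ hodd (by omega) h1n l (fun i hi => ⟨(hl1 i hi).1, (hl1 i hi).2.1⟩)
    (fun hm => by have := (hl1 _ hm).2.2; omega) hl2 hl3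
  have hgodd : Odd (cc g) := by
    rw [hg]
    apply hodd.mul
    have : ∀ m : Finset ℕ, (∀ i ∈ m, Odd i) → Odd (∏ i ∈ m, i) := by
      intro m
      induction m using Finset.induction_on with
      | empty => intro _; simp
      | insert a s ha ih =>
        intro hm
        rw [Finset.prod_insert ha]
        exact (hm a (Finset.mem_insert_self a s)).mul (ih fun i hi => hm i (Finset.mem_insert_of_mem hi))
    exact this l fun i hi => (hl1 i hi).1
  have hgr : r₁ ∣ cc g := by rw [hg]; exact Nat.dvd_mul_right _ _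
  have hgI : cc g ∣ r₁ * (n - r₁)! := by
    rcases h.dich r₁ hr₁ (by omega) h1n g hgr with h4 | h4
    · exact h4
    · exfalso
      have h5 : 2 ∣ cc g := by
        refine Dvd.dvd.trans ?_ h4
        have h6 : 4 ! ∣ r₁ ! := Nat.factorial_dvd_factorial (by omega)
        rw [show 4 ! = 2 * 12 by rfl] at h6
        obtain ⟨c, hc⟩ := h6
        rw [hc, mul_assoc, Nat.mul_div_cancel_left _ two_pos]
        exact (show 2 ∣ 12 by norm_num).mul_right c
      exact (Nat.not_even_iff_odd.mpr hgodd) (even_iff_two_dvd.mpr h5)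
  refine fun x hx => h.good_of_start hn hr₁ (by omega) h1n hsize hgr hgI ?_ hr₀ h01 h0n x hx
  intro q hq hqg _ hqs
  have h4 := hqs s hs h1 (by omega)
  have h5 := hqs t ht (by omega) h3
  have h6 : q ∣ 2 := by rw [← hgcd]; exact Nat.dvd_gcd h4 h5
  have h7 : q = 2 := (Nat.prime_dvd_prime_iff_eq hq Nat.prime_two).mp h6
  subst h7
  exact (Nat.not_even_iff_odd.mpr hgodd) (even_iff_two_dvd.mpr hqg)

theorem Hyp.start_small (h : Hyp G n) (hn : 5 ≤ n) {s r₁ : ℕ} (hs : s.Prime) (hr₁ : r₁.Prime)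
    (h1 : n < 2 * s) (h3 : s < r₁) (h1n : r₁ ≤ n) (hsize : 4 * (n ! * (r₁ * (n - r₁)!)) < (r₁ !) ^ 2)
    (hk : n - r₁ ≤ 3) {r₀ : ℕ} (hr₀ : r₀.Prime) (h01 : r₁ ≤ r₀) (h0n : r₀ ≤ n) :
    Good G n r₀ := by
  have hs3 : 3 ≤ s := by omega
  have hr5 : 5 ≤ r₁ := by
    by_contra hcon
    have : r₁ = 4 := by omega
    subst this
    exact absurd hr₁ (by norm_num)
  have hodd : Odd r₁ := hr₁.odd_of_ne_two (by omega)
  obtain ⟨g, hgr, hgI⟩ := h.ex0 r₁ hr₁ hodd (by omega) h1n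
  refine fun x hx => h.good_of_start hn hr₁ (by omega) h1n hsize hgr hgI ?_ hr₀ h01 h0n x hx
  intro q hq hqg hq2 hqs
  have h4 := hqs s hs h1 h3
  have h5 : q ≤ s - 1 := Nat.le_of_dvd (by omega) h4
  -- `2 q ≤ r₁`
  have h6 : 2 * q ≤ r₁ := by
    by_cases hq2 : q = 2
    · omega
    · have hse : 2 ∣ s - 1 := by
        have := hs.odd_of_ne_two (by omega)
        obtain ⟨a, ha⟩ := this
        exact ⟨a, by omega⟩
      have h7 : 2 * q ∣ s - 1 :=
        Nat.Coprime.mul_dvd_of_dvd_of_dvd ((Nat.coprime_primes Nat.prime_two hq).mpr (Ne.symm hq2)) hse h4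
      have := Nat.le_of_dvd (by omega) h7
      omega
  have h7 : q ^ 2 ∣ r₁ ! / 2 := by
    by_cases hq2 : q = 2
    · subst hq2
      have h8 : 4 ! ∣ r₁ ! := Nat.factorial_dvd_factorial (by omega)
      rw [show 4 ! = 2 * (2 ^ 2 * 3) by rfl] at h8
      obtain ⟨c, hc⟩ := h8
      rw [hc, mul_assoc, Nat.mul_div_cancel_left _ two_pos, mul_assoc]
      exact Nat.dvd_mul_right _ _
    · have h8 : q ^ 2 ∣ r₁ ! := by
        refine Dvd.dvd.trans ?_ (Nat.factorial_dvd_factorial h6)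
        have h9 : 2 * q = (2 * q - 1) + 1 := by have := hq.pos; omega
        rw [h9, Nat.factorial_succ, ← h9]
        have h10 : q ∣ (2 * q - 1)! := Nat.dvd_factorial hq.pos (by have := hq.two_le; omega)
        rw [pow_two]
        exact Nat.mul_dvd_mul (Nat.dvd_mul_left q 2) h10
      have heven : 2 ∣ r₁ ! := Nat.dvd_factorial two_pos hr₁.two_le
      have hb : r₁ ! = 2 * (r₁ ! / 2) := (Nat.mul_div_cancel' heven).symm
      rw [hb] at h8
      exact (Nat.Coprime.dvd_of_dvd_mul_left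
        (Nat.Coprime.pow_left 2 ((Nat.coprime_primes hq Nat.prime_two).mpr hq2)) h8)
  have h8 := hq2 h7
  -- but `r₁ (n - r₁)!` is squarefree at `q`
  have h9 : q ^ 2 ∣ (n - r₁)! := by
    have hqr : Nat.Coprime (q ^ 2) r₁ := Nat.Coprime.pow_left 2 ((Nat.coprime_primes hq hr₁).mpr (by omega))
    exact hqr.dvd_of_dvd_mul_left h8
  have h10 : (n - r₁)! ∣ 6 := by
    have : (n - r₁)! ∣ 3 ! := Nat.factorial_dvd_factorial hk
    exact this
  have h11 : q ^ 2 ∣ 6 := h9.trans h10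
  have h12 : q ^ 2 ≤ 6 := Nat.le_of_dvd (by norm_num) h11
  have h13 : q = 2 := by
    have := hq.two_le
    have : q < 3 := by
      by_contra hcon
      have : 3 ^ 2 ≤ q ^ 2 := Nat.pow_le_pow_left (by omega) 2
      omega
    omega
  subst h13
  norm_num at h11

theorem Hyp.start_large (h : Hyp G n) (hn : 5 ≤ n) {s t r₁ : ℕ} (hs : s.Prime) (ht : t.Prime) (hr₁ : r₁.Prime)
    (h1 : n < 2 * s) (h2 : s < t) (h3 : t < r₁) (h1n : r₁ ≤ n) (hsize : 4 * (n ! * (r₁ * (n - r₁)!)) < (r₁ !) ^ 2)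
    (hk : 6 * (t - s) < n - r₁) {r₀ : ℕ} (hr₀ : r₀.Prime) (h01 : r₁ ≤ r₀) (h0n : r₀ ≤ n) :
    Good G n r₀ := by
  have hodd : Odd r₁ := hr₁.odd_of_ne_two (by omega)
  have hsodd : Odd s := hs.odd_of_ne_two (by omega)
  have htodd : Odd t := ht.odd_of_ne_two (by omega)
  have hDe : Even (t - s) := Nat.Odd.sub_odd htodd hsodd
  have hD2 : 2 ≤ t - s := by
    obtain ⟨a, ha⟩ := hDe
    omega
  obtain ⟨k, hke, hk1, hk2⟩ : ∃ k, Even k ∧ k ≤ n - r₁ ∧ n - r₁ ≤ k + 1 := by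
    rcases Nat.even_or_odd (n - r₁) with h5 | h5
    · exact ⟨n - r₁, h5, le_rfl, by omega⟩
    · obtain ⟨a, ha⟩ := h5
      exact ⟨2 * a, even_two_mul a, by omega, by omega⟩
  obtain ⟨i, hi3, hik, hile, hio, hko, hc1, hc2⟩ := exists_coprime_pair hD2 hDe hke (by omega)
  have hne : i ≠ k - i := by omega
  have hsum : ∑ j ∈ ({i, k - i} : Finset ℕ), j = k := by
    rw [Finset.sum_pair hne]
    omega
  have hprod : ∏ j ∈ ({i, k - i} : Finset ℕ), j = i * (k - i) := Finset.prod_pair hne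
  obtain ⟨g, hg⟩ := h.exs r₁ hr₁ hodd (by omega) h1n {i, k - i} (by
      intro j hj
      rw [Finset.mem_insert, Finset.mem_singleton] at hj
      rcases hj with rfl | rfl
      · exact ⟨hio, hi3⟩
      · exact ⟨hko, by omega⟩)
    (by
      intro hm
      rw [Finset.mem_insert, Finset.mem_singleton] at hm
      omega)
    (by rw [hsum]; omega) (by rw [hsum]; omega)
  rw [hprod] at hg
  have hgr : r₁ ∣ cc g := by rw [hg]; exact Nat.dvd_mul_right _ _
  have hgodd : Odd (cc g) := by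
    rw [hg]
    exact hodd.mul (hio.mul hko)
  have hgI : cc g ∣ r₁ * (n - r₁)! := by
    rcases h.dich r₁ hr₁ (by omega) h1n g hgr with h4 | h4
    · exact h4
    · exfalso
      have h5 : 2 ∣ cc g := by
        refine Dvd.dvd.trans ?_ h4
        have h6 : 4 ! ∣ r₁ ! := Nat.factorial_dvd_factorial (by omega)
        rw [show 4 ! = 2 * 12 by rfl] at h6
        obtain ⟨c, hc⟩ := h6
        rw [hc, mul_assoc, Nat.mul_div_cancel_left _ two_pos]
        exact (show 2 ∣ 12 by norm_num).mul_right c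
      exact (Nat.not_even_iff_odd.mpr hgodd) (even_iff_two_dvd.mpr h5)
  refine fun x hx => h.good_of_start hn hr₁ (by omega) h1n hsize hgr hgI ?_ hr₀ h01 h0n x hx
  intro q hq hqg _ hqs
  have h4 := hqs s hs h1 (by omega)
  have h5 := hqs t ht (by omega) h3
  have h6 : q ∣ t - s := by
    have h7 := Nat.dvd_sub h5 h4
    have h8 : t - 1 - (s - 1) = t - s := by omega
    rwa [h8] at h7
  have h7 : q ≤ s - 1 := Nat.le_of_dvd (by omega) h4
  rw [hg] at hqg
  have hnc : ∀ a, Nat.Coprime a (t - s) → ¬ q ∣ a := by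
    intro a ha hqa
    have h9 : q ∣ Nat.gcd a (t - s) := Nat.dvd_gcd hqa h6
    rw [ha.gcd_eq_one] at h9
    exact hq.one_lt.ne' (Nat.dvd_one.mp h9)
  rcases hq.dvd_mul.mp hqg with h8 | h8
  · have := (Nat.prime_dvd_prime_iff_eq hq hr₁).mp h8
    omega
  · rcases hq.dvd_mul.mp h8 with h9 | h9
    · exact hnc _ hc1 h9
    · exact hnc _ hc2 h9

end Cfsg.Agent.H427.Cs
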