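import Mathlib
import Cfsg.Agent.H427.CsStart

/-!
# Good primes for every degree (helper427)
-/

set_option autoImplicit false

namespace Cfsg.Agent.H427.Cs

open Subgroup Nat
open Chebyshev (theta psi)

/-! ### many primes for `n ≥ 60000` -/

theorem lt_card_primes {a b n C : ℕ} (hab : a ≤ b) (hb : b ≤ n) (hn : 1 ≤ n)
    (h : (C : ℝ) * Real.log n < theta (b : ℕ) - theta (a : ℕ)) :
    C < ((Finset.Ioc a b).filter Nat.Prime).card := by
  rw [Cfsg.Agent.H357.Cheb.theta_sub hab] at h
  set P := (Finset.Ioc a b).filter Nat.Prime with hP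
  by_contra hc
  have h10 : ∑ t ∈ P, Real.log t ≤ ∑ t ∈ P, Real.log n := by
    refine Finset.sum_le_sum fun t ht => ?_
    rw [hP, Finset.mem_filter, Finset.mem_Ioc] at ht
    apply Real.log_le_log
    · exact_mod_cast ht.2.pos
    · exact_mod_cast ht.1.2.trans hb
  rw [Finset.sum_const, nsmul_eq_mul] at h10
  have h11 : (P.card : ℝ) ≤ C := by exact_mod_cast (not_lt.1 hc)
  have h12 : 0 ≤ Real.log n := Real.log_nonneg (by exact_mod_cast hn)
  nlinarith

theorem theta_nat_lower {n b : ℕ} (hn : 60000 ≤ n) (hb : 15000 ≤ b) (hbn : b ≤ n) :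
    0.92129 * (b : ℝ) - 0.0094 * (n : ℝ) ≤ theta (b : ℕ) := by
  have h1 := Cfsg.Agent.H357.Cheb.theta_lower (m := b) hb
  have h2 : Real.log b ≤ Real.log n := by
    apply Real.log_le_log
    · have : 0 < b := by omega
      exact_mod_cast this
    · exact_mod_cast hbn
  have h3 : √(b : ℝ) ≤ √(n : ℝ) := Real.sqrt_le_sqrt (by exact_mod_cast hbn)
  have h4 := Cfsg.Agent.H357.Cheb.log_le_lin hn
  have h5 := Cfsg.Agent.H357.Cheb.sqrt_le_lin hn
  have hn' : (60000 : ℝ) ≤ n := by exact_mod_cast hn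
  linarith

theorem theta_nat_upper {n a : ℕ} (hn : 60000 ≤ n) (ha : 1 ≤ a) (han : a ≤ n) :
    theta (a : ℕ) ≤ 1.12 * (a : ℝ) + 0.00203 * (n : ℝ) := by
  have h1 := Cfsg.Agent.H357.Cheb.psi_upper (n := a) ha
  have h2 := Chebyshev.theta_le_psi (a : ℝ)
  have h3 : Real.log a ≤ Real.log n := by
    apply Real.log_le_log
    · exact_mod_cast ha
    · exact_mod_cast han
  have h4 := Cfsg.Agent.H357.Cheb.log_le_lin hn
  have hn' : (60000 : ℝ) ≤ n := by exact_mod_cast hn
  linarith

theorem exists_large {n : ℕ} (hn : 60000 ≤ n) : ∃ s t r₁ r₂ : ℕ, s.Prime ∧ t.Prime ∧ r₁.Prime ∧ r₂.Prime ∧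
    n < 2 * s ∧ s < t ∧ t < r₁ ∧ r₁ < r₂ ∧ r₂ ≤ n ∧ 4 * n < 5 * r₁ ∧ 6 * (t - s) < n - r₁ := by
  have hn' : (60000 : ℝ) ≤ n := by exact_mod_cast hn
  have hlog := Cfsg.Agent.H357.Cheb.log_le_lin hn
  have e1 : (99 * n / 100 : ℕ) ≥ (0.99 * (n : ℝ) - 1) := by
    have h1 : 99 * n < 100 * (99 * n / 100) + 100 := by omega
    have h2 : (99 * (n : ℝ)) < 100 * ((99 * n / 100 : ℕ) : ℝ) + 100 := by exact_mod_cast h1
    linarith
  have e2 : ((4 * n / 5 : ℕ) : ℝ) ≤ 0.8 * (n : ℝ) := by
    have h1 : 5 * (4 * n / 5) ≤ 4 * n := by omega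
    have h2 : 5 * ((4 * n / 5 : ℕ) : ℝ) ≤ 4 * (n : ℝ) := by exact_mod_cast h1
    linarith
  have e3 : ((4 * n / 5 : ℕ) : ℝ) ≥ 0.8 * (n : ℝ) - 1 := by
    have h1 : 4 * n < 5 * (4 * n / 5) + 5 := by omega
    have h2 : 4 * (n : ℝ) < 5 * ((4 * n / 5 : ℕ) : ℝ) + 5 := by exact_mod_cast h1
    linarith
  have e4 : ((n / 2 : ℕ) : ℝ) ≤ 0.5 * (n : ℝ) := by
    have h1 : 2 * (n / 2) ≤ n := by omega
    have h2 : 2 * ((n / 2 : ℕ) : ℝ) ≤ (n : ℝ) := by exact_mod_cast h1
    linarith
  -- two primes in `(4n/5, 99n/100]`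
  have hA : 1 < ((Finset.Ioc (4 * n / 5) (99 * n / 100)).filter Nat.Prime).card := by
    apply lt_card_primes (n := n) (by omega) (by omega) (by omega)
    have h1 := theta_nat_lower hn (b := 99 * n / 100) (by omega) (by omega)
    have h2 := theta_nat_upper hn (a := 4 * n / 5) (by omega) (by omega)
    push_cast
    linarith
  have hB : 250 < ((Finset.Ioc (n / 2) (4 * n / 5)).filter Nat.Prime).card := by
    apply lt_card_primes (n := n) (by omega) (by omega) (by omega)
    have h1 := theta_nat_lower hn (b := 4 * n / 5) (by omega) (by omega)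
    have h2 := theta_nat_upper hn (a := n / 2) (by omega) (by omega)
    push_cast
    linarith
  obtain ⟨a, ha, b, hb, hab⟩ := Finset.one_lt_card.mp hA
  rw [Finset.mem_filter, Finset.mem_Ioc] at ha hb
  obtain ⟨r₁, r₂, hr₁, hr₂, h12, h1a, h2b⟩ : ∃ r₁ r₂ : ℕ, r₁.Prime ∧ r₂.Prime ∧ r₁ < r₂ ∧ 4 * n / 5 < r₁ ∧
      r₂ ≤ 99 * n / 100 := by
    rcases lt_or_gt_of_ne hab with h' | h'
    · exact ⟨a, b, ha.2, hb.2, h', ha.1.1, hb.1.2⟩
    · exact ⟨b, a, hb.2, ha.2, h', hb.1.1, ha.1.2⟩
  -- two close primes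
  obtain ⟨x, hx, y, hy, hxy, hf⟩ := Finset.exists_ne_map_eq_of_card_lt_of_maps_to
    (s := (Finset.Ioc (n / 2) (4 * n / 5)).filter Nat.Prime) (t := Finset.range 250)
    (f := fun t => (t - n / 2) / (n / 800)) (by rw [Finset.card_range]; exact hB) (by
      intro t ht
      rw [Finset.mem_coe, Finset.mem_filter, Finset.mem_Ioc] at ht
      rw [Finset.mem_coe, Finset.mem_range]
      apply Nat.div_lt_of_lt_mul
      have : 75 ≤ n / 800 := by omega
      omega)
  rw [Finset.mem_filter, Finset.mem_Ioc] at hx hy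
  obtain ⟨s, t, hs, ht, hst, h1s, h2t, hD⟩ : ∃ s t : ℕ, s.Prime ∧ t.Prime ∧ s < t ∧ n / 2 < s ∧
      t ≤ 4 * n / 5 ∧ t - s < n / 800 := by
    have hw : 0 < n / 800 := by omega
    have hf' : (x - n / 2) / (n / 800) = (y - n / 2) / (n / 800) := hf
    have m1 := Nat.div_add_mod (x - n / 2) (n / 800)
    have m2 := Nat.div_add_mod (y - n / 2) (n / 800)
    have m3 := Nat.mod_lt (x - n / 2) hw
    have m4 := Nat.mod_lt (y - n / 2) hw
    rw [hf'] at m1
    rcases lt_or_gt_of_ne hxy with h' | h'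
    · exact ⟨x, y, hx.2, hy.2, h', hx.1.1, hy.1.2, by omega⟩
    · exact ⟨y, x, hy.2, hx.2, h', hy.1.1, hx.1.2, by omega⟩
  exact ⟨s, t, r₁, r₂, hs, ht, hr₁, hr₂, by omega, hst, by omega, h12, by omega, by omega, by omega⟩

/-! ### the table -/

open Cfsg.Agent.H357.Cheb (isP prime_of_isP)

def chkTab : ℕ → List (ℕ × ℕ × ℕ × ℕ × ℕ) → Bool
  | x, [] => Nat.ble 60000 x
  | x, (s, t, r₁, r₂, b) :: l => Nat.ble r₂ x && Nat.blt s t && Nat.blt t r₁ && Nat.blt r₁ r₂ && isP s && isP t &&
      isP r₁ && isP r₂ && Nat.blt (4 * (b - 1)) (5 * r₁) && Nat.blt (b - 1) (2 * s) &&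
      Nat.beq (Nat.gcd (s - 1) (t - 1)) 2 && Nat.ble (r₁ + 3) x && chkTab b l

def tab : List (ℕ × ℕ × ℕ × ℕ × ℕ) := [(29, 31, 37, 41, 47), (29, 31, 43, 47, 54), (41, 43, 47, 53, 59),
  (43, 47, 53, 59, 67), (53, 59, 61, 67, 77), (59, 67, 71, 73, 89), (71, 79, 83, 89, 104), (83, 97, 101, 103, 127),
  (107, 109, 113, 127, 142), (127, 131, 137, 139, 172), (149, 151, 163, 167, 204), (191, 193, 197, 199, 247),
  (227, 233, 239, 241, 299), (269, 271, 283, 293, 354), (337, 347, 349, 353, 437), (419, 421, 431, 433, 539),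
  (503, 509, 521, 523, 652), (619, 641, 643, 647, 804), (751, 773, 787, 797, 984), (967, 971, 977, 983, 1222),
  (1187, 1201, 1213, 1217, 1517), (1487, 1493, 1499, 1511, 1874), (1847, 1867, 1871, 1873, 2339),
  (2309, 2311, 2333, 2339, 2917), (2897, 2903, 2909, 2917, 3637), (3617, 3623, 3631, 3637, 4539),
  (4507, 4517, 4519, 4523, 5649), (5623, 5639, 5641, 5647, 7052), (7019, 7027, 7039, 7043, 8799),
  (8747, 8761, 8779, 8783, 10974), (10939, 10949, 10957, 10973, 13697), (13687, 13691, 13693, 13697, 17117),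
  (17093, 17099, 17107, 17117, 21384), (21347, 21377, 21379, 21383, 26724), (26711, 26713, 26717, 26723, 33397),
  (33353, 33359, 33377, 33391, 41722), (41659, 41681, 41687, 41719, 52109), (52067, 52069, 52081, 52103, 65102)]

theorem of_chkTab : ∀ (l : List (ℕ × ℕ × ℕ × ℕ × ℕ)) (x : ℕ), chkTab x l = true → ∀ n, x ≤ n → n < 60000 →
    ∃ s t r₁ r₂ : ℕ, s.Prime ∧ t.Prime ∧ r₁.Prime ∧ r₂.Prime ∧ n < 2 * s ∧ s < t ∧ t < r₁ ∧ r₁ < r₂ ∧ r₂ ≤ n ∧
      4 * n < 5 * r₁ ∧ Nat.gcd (s - 1) (t - 1) = 2 ∧ n - r₁ ≠ 2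
  | [], x, h, n, h1, h2 => by
    unfold chkTab at h
    rw [Nat.ble_eq] at h
    omega
  | (s, t, r₁, r₂, b) :: l, x, h, n, h1, h2 => by
    unfold chkTab at h
    simp only [Bool.and_eq_true, Nat.blt_eq, Nat.ble_eq, Nat.beq_eq] at h
    obtain ⟨⟨⟨⟨⟨⟨⟨⟨⟨⟨⟨⟨c1, c2⟩, c3⟩, c4⟩, c5⟩, c6⟩, c7⟩, c8⟩, c9⟩, c10⟩, c11⟩, c12⟩, c13⟩ := h
    rcases Nat.lt_or_ge n b with h3 | h3
    · exact ⟨s, t, r₁, r₂, prime_of_isP c5, prime_of_isP c6, prime_of_isP c7, prime_of_isP c8, by omega, c2, c3, c4,
        by omega, by omega, c11, by omega⟩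
    · exact of_chkTab l b c13 n h3 h2

theorem chkTab_ok : chkTab 41 tab = true := by decide +kernel

variable {G : Type*} [Group G] [Finite G] {n : ℕ}

/-- **All primes from `r₁ > 4 n / 5` on are good** for `n ≥ 41`. -/
theorem Hyp.exists_start (h : Hyp G n) (hn : 41 ≤ n) : ∃ r₁ r₂ : ℕ, r₁.Prime ∧ r₂.Prime ∧ 4 * n < 5 * r₁ ∧ r₁ < r₂ ∧
    r₂ ≤ n ∧ ∀ r₀ : ℕ, r₀.Prime → r₁ ≤ r₀ → r₀ ≤ n → Good G n r₀ := by
  by_cases h6 : n < 60000
  · obtain ⟨s, t, r₁, r₂, hs, ht, hr₁, hr₂, h1, h2, h3, h4, h5, h7, h8, h9⟩ := of_chkTab tab 41 chkTab_ok n hn h6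
    exact ⟨r₁, r₂, hr₁, hr₂, h7, h4, h5, fun r₀ hr₀ h01 h0n =>
      h.start_table (by omega) hs ht hr₁ h1 h2 h3 (by omega) (size_of_large (by omega) h7 (by omega)) h8 h9 hr₀ h01 h0n⟩
  · obtain ⟨s, t, r₁, r₂, hs, ht, hr₁, hr₂, h1, h2, h3, h4, h5, h7, h8⟩ := exists_large (n := n) (by omega)
    exact ⟨r₁, r₂, hr₁, hr₂, h7, h4, h5, fun r₀ hr₀ h01 h0n =>
      h.start_large (by omega) hs ht hr₁ h1 h2 h3 (by omega) (size_of_large (by omega) h7 (by omega)) h8 hr₀ h01 h0n⟩

/-- the largest prime is good, and there is a second large prime -/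
theorem Hyp.good_max (h : Hyp G n) (hn : 5 ≤ n) (hn6 : n ≠ 6) (hn10 : n ≠ 10) : ∃ p s : ℕ, p.Prime ∧ s.Prime ∧
    n < 2 * s ∧ s < p ∧ p ≤ n ∧ (∀ q : ℕ, q.Prime → q ≤ n → q ≤ p) ∧ Good G n p := by
  rcases Nat.lt_or_ge n 41 with h41 | h41
  · have key : ∀ p s : ℕ, p.Prime → s.Prime → n < 2 * s → s < p → p ≤ n → (∀ q ≤ n, p < q → ¬ q.Prime) →
        4 * (n ! * (p * (n - p)!)) < (p !) ^ 2 → n - p ≤ 3 →
        ∃ p s : ℕ, p.Prime ∧ s.Prime ∧ n < 2 * s ∧ s < p ∧ p ≤ n ∧ (∀ q : ℕ, q.Prime → q ≤ n → q ≤ p) ∧ Good G n p := by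
      intro p s hp hs h1 h2 h3 h4 h5 h6
      exact ⟨p, s, hp, hs, h1, h2, h3, fun q hq hqn => by
        by_contra hcon
        exact h4 q hqn (by omega) hq, h.start_small hn hs hp h1 h2 h3 h5 h6 hp le_rfl h3⟩
    have key2 : ∀ p s t : ℕ, p.Prime → s.Prime → t.Prime → n < 2 * s → s < t → t < p → p ≤ n →
        (∀ q ≤ n, p < q → ¬ q.Prime) → 4 * (n ! * (p * (n - p)!)) < (p !) ^ 2 → Nat.gcd (s - 1) (t - 1) = 2 →
        n - p ≠ 2 →
        ∃ p s : ℕ, p.Prime ∧ s.Prime ∧ n < 2 * s ∧ s < p ∧ p ≤ n ∧ (∀ q : ℕ, q.Prime → q ≤ n → q ≤ p) ∧ Good G n p := by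
      intro p s t hp hs ht h1 h2 h3 h3' h4 h5 h6 h7
      exact ⟨p, s, hp, hs, h1, by omega, h3', fun q hq hqn => by
        by_contra hcon
        exact h4 q hqn (by omega) hq, h.start_table hn hs ht hp h1 h2 h3 h3' h5 h6 h7 hp le_rfl h3'⟩
    interval_cases n
    case «5» => exact key 5 3 (by norm_num) (by norm_num) (by norm_num) (by norm_num) (by norm_num) (by decide) (by decide +kernel) (by norm_num)
    case «6» => exact absurd rfl hn6
    case «7» => exact key 7 5 (by norm_num) (by norm_num) (by norm_num) (by norm_num) (by norm_num) (by decide) (by decide +kernel) (by norm_num)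
    case «8» => exact key 7 5 (by norm_num) (by norm_num) (by norm_num) (by norm_num) (by norm_num) (by decide) (by decide +kernel) (by norm_num)
    case «9» => exact key 7 5 (by norm_num) (by norm_num) (by norm_num) (by norm_num) (by norm_num) (by decide) (by decide +kernel) (by norm_num)
    case «10» => exact absurd rfl hn10
    case «11» => exact key 11 7 (by norm_num) (by norm_num) (by norm_num) (by norm_num) (by norm_num) (by decide) (by decide +kernel) (by norm_num)
    case «12» => exact key 11 7 (by norm_num) (by norm_num) (by norm_num) (by norm_num) (by norm_num) (by decide) (by decide +kernel) (by norm_num)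
    case «13» => exact key 13 11 (by norm_num) (by norm_num) (by norm_num) (by norm_num) (by norm_num) (by decide) (by decide +kernel) (by norm_num)
    case «14» => exact key 13 11 (by norm_num) (by norm_num) (by norm_num) (by norm_num) (by norm_num) (by decide) (by decide +kernel) (by norm_num)
    case «15» => exact key 13 11 (by norm_num) (by norm_num) (by norm_num) (by norm_num) (by norm_num) (by decide) (by decide +kernel) (by norm_num)
    case «16» => exact key 13 11 (by norm_num) (by norm_num) (by norm_num) (by norm_num) (by norm_num) (by decide) (by decide +kernel) (by norm_num)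
    case «17» => exact key 17 13 (by norm_num) (by norm_num) (by norm_num) (by norm_num) (by norm_num) (by decide) (by decide +kernel) (by norm_num)
    case «18» => exact key 17 13 (by norm_num) (by norm_num) (by norm_num) (by norm_num) (by norm_num) (by decide) (by decide +kernel) (by norm_num)
    case «19» => exact key 19 17 (by norm_num) (by norm_num) (by norm_num) (by norm_num) (by norm_num) (by decide) (by decide +kernel) (by norm_num)
    case «20» => exact key 19 17 (by norm_num) (by norm_num) (by norm_num) (by norm_num) (by norm_num) (by decide) (by decide +kernel) (by norm_num)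
    case «21» => exact key 19 17 (by norm_num) (by norm_num) (by norm_num) (by norm_num) (by norm_num) (by decide) (by decide +kernel) (by norm_num)
    case «22» => exact key 19 17 (by norm_num) (by norm_num) (by norm_num) (by norm_num) (by norm_num) (by decide) (by decide +kernel) (by norm_num)
    case «23» => exact key 23 19 (by norm_num) (by norm_num) (by norm_num) (by norm_num) (by norm_num) (by decide) (by decide +kernel) (by norm_num)
    case «24» => exact key 23 19 (by norm_num) (by norm_num) (by norm_num) (by norm_num) (by norm_num) (by decide) (by decide +kernel) (by norm_num)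
    case «25» => exact key 23 19 (by norm_num) (by norm_num) (by norm_num) (by norm_num) (by norm_num) (by decide) (by decide +kernel) (by norm_num)
    case «26» => exact key 23 19 (by norm_num) (by norm_num) (by norm_num) (by norm_num) (by norm_num) (by decide) (by decide +kernel) (by norm_num)
    case «27» => exact key2 23 17 19 (by norm_num) (by norm_num) (by norm_num) (by norm_num) (by norm_num) (by norm_num) (by norm_num) (by decide) (by decide +kernel) (by norm_num) (by norm_num)
    case «28» => exact key2 23 17 19 (by norm_num) (by norm_num) (by norm_num) (by norm_num) (by norm_num) (by norm_num) (by norm_num) (by decide) (by decide +kernel) (by norm_num) (by norm_num)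
    case «29» => exact key 29 23 (by norm_num) (by norm_num) (by norm_num) (by norm_num) (by norm_num) (by decide) (by decide +kernel) (by norm_num)
    case «30» => exact key 29 23 (by norm_num) (by norm_num) (by norm_num) (by norm_num) (by norm_num) (by decide) (by decide +kernel) (by norm_num)
    case «31» => exact key 31 29 (by norm_num) (by norm_num) (by norm_num) (by norm_num) (by norm_num) (by decide) (by decide +kernel) (by norm_num)
    case «32» => exact key 31 29 (by norm_num) (by norm_num) (by norm_num) (by norm_num) (by norm_num) (by decide) (by decide +kernel) (by norm_num)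
    case «33» => exact key 31 29 (by norm_num) (by norm_num) (by norm_num) (by norm_num) (by norm_num) (by decide) (by decide +kernel) (by norm_num)
    case «34» => exact key 31 29 (by norm_num) (by norm_num) (by norm_num) (by norm_num) (by norm_num) (by decide) (by decide +kernel) (by norm_num)
    case «35» => exact key2 31 19 23 (by norm_num) (by norm_num) (by norm_num) (by norm_num) (by norm_num) (by norm_num) (by norm_num) (by decide) (by decide +kernel) (by norm_num) (by norm_num)
    case «36» => exact key2 31 19 23 (by norm_num) (by norm_num) (by norm_num) (by norm_num) (by norm_num) (by norm_num) (by norm_num) (by decide) (by decide +kernel) (by norm_num) (by norm_num)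
    case «37» => exact key 37 31 (by norm_num) (by norm_num) (by norm_num) (by norm_num) (by norm_num) (by decide) (by decide +kernel) (by norm_num)
    case «38» => exact key 37 31 (by norm_num) (by norm_num) (by norm_num) (by norm_num) (by norm_num) (by decide) (by decide +kernel) (by norm_num)
    case «39» => exact key 37 31 (by norm_num) (by norm_num) (by norm_num) (by norm_num) (by norm_num) (by decide) (by decide +kernel) (by norm_num)
    case «40» => exact key 37 31 (by norm_num) (by norm_num) (by norm_num) (by norm_num) (by norm_num) (by decide) (by decide +kernel) (by norm_num)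
  · obtain ⟨r₁, r₂, hr₁, hr₂, h1, h2, h3, h4⟩ := h.exists_start h41
    obtain ⟨p, hp, hpn, hmax⟩ : ∃ p : ℕ, p.Prime ∧ p ≤ n ∧ ∀ q : ℕ, q.Prime → q ≤ n → q ≤ p := by
      classical
      have hne : ((Finset.range (n + 1)).filter Nat.Prime).Nonempty :=
        ⟨r₂, by rw [Finset.mem_filter, Finset.mem_range]; exact ⟨by omega, hr₂⟩⟩
      obtain ⟨p, hp, hmax⟩ := Finset.exists_max_image _ id hne
      rw [Finset.mem_filter, Finset.mem_range] at hp
      refine ⟨p, hp.2, by omega, fun q hq hqn => hmax q ?_⟩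
      rw [Finset.mem_filter, Finset.mem_range]
      exact ⟨by omega, hq⟩
    have h5 := hmax r₂ hr₂ h3
    exact ⟨p, r₁, hp, hr₁, by omega, by omega, hpn, hmax, h4 p hp (by omega) hpn⟩

end Cfsg.Agent.H427.Cs
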