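import Mathlib
import Cfsg.Agent.H427.CsRed
import Cfsg.Agent.H357.Large
import Cfsg.Agent.H357.Main

/-!
# The simple section is alternating, from two good primes (helper427)
-/

set_option autoImplicit false

namespace Cfsg.Agent.H427.Cs

open Subgroup Nat Cfsg Cfsg.Agent.OrdDiv Cfsg.Agent.H363.Frat Cfsg.Agent.H363.AltPrimes Cfsg.Agent.H357.Reduce
  Cfsg.Agent.H357 Cfsg.Agent.H405.Shape

universe u

section A

variable {G : Type*} [Group G] [Finite G] {n : ℕ} {N : Subgroup G} [N.Normal] {M : Subgroup (G ⧸ N)}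

/-- a large prime divides `|G|` and `|M|` exactly once -/
theorem fact_large (D : Data G n N M) (h : Cs.Hyp G n) (hn : 5 ≤ n) {q : ℕ} (hq : q.Prime) (h1 : n < 2 * q)
    (h2 : q ≤ n) : (Nat.card M).factorization q = 1 ∧ (Nat.card N).factorization q = 0 ∧
      M.index.factorization q = 0 := by
  have e1 : (Nat.card G).factorization q = 1 := by
    rw [h.odd_fact hq (by omega)]
    exact factorization_factorial hq h2 h1
  have e2 := D.fact_add q
  have e3 : 1 ≤ (Nat.card M).factorization q :=
    (hq.dvd_iff_one_le_factorization Nat.card_pos.ne').mp (D.primes q hq h1 h2)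
  omega

theorem dvd_pow_sub_one (D : Data G n N M) {t q : ℕ} (ht : t.Prime) (hq : q.Prime) (htq : t ≠ q)
    (h1 : n < 2 * q) (h2 : q ≤ n) (h3 : n < q + t) (hg : Good G n q) :
    q ∣ t ^ (Nat.card N).factorization t - 1 := by
  have hidx : q ^ 1 ∣ N.index := by
    rw [pow_one, Subgroup.index_eq_card, ← M.card_mul_index]
    exact (D.primes q hq h1 h2).mul_right _
  have := pow_dvd_of_normal hq ht (Ne.symm htq) (nonAdj_of_good hq ht (Ne.symm htq) h3 hg) N hidx
  rwa [pow_one] at this

theorem dvd_sub_one (D : Data G n N M) (h : Cs.Hyp G n) (hn : 5 ≤ n) {t q : ℕ} (ht : t.Prime) (hq : q.Prime)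
    (htq : t ≠ q) (h1 : n < 2 * q) (h2 : q ≤ n) (h3 : n < q + t) (hg : Good G n q) (hd : t ∣ M.index) :
    t ∣ q - 1 := by
  have hN := D.normal
  have h4 := pow_dvd_of_normal ht hq htq
    ((nonAdj_symm (nonAdj_of_good hq ht (Ne.symm htq) h3 hg)).quotient N) M (k := 1) (by rw [pow_one]; exact hd)
  rw [(fact_large D h hn hq h1 h2).1, pow_one, pow_one] at h4
  exact h4

/-- `t` odd prime, `n < 5 t`, `2 t ≤ n`, `n ≥ 41`: `t ∤ |N|` -/
theorem fact_N (D : Data G n N M) (h : Cs.Hyp G n) (hn : 41 ≤ n) {r s : ℕ} (hr : r.Prime) (hs : s.Prime)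
    (h1 : 4 * n < 5 * r) (h2 : r < s) (h3 : s ≤ n) (hgr : Good G n r) (hgs : Good G n s) {t : ℕ} (ht : t.Prime)
    (h5 : n < 5 * t) (h2t : 2 * t ≤ n) : (Nat.card N).factorization t = 0 := by
  by_contra ha0
  have hnt : n < t * t := by
    have : 5 ≤ t := by omega
    nlinarith
  have ha : (Nat.card N).factorization t * t ≤ n := by
    have e1 : (Nat.card N).factorization t ≤ (Nat.card G).factorization t := by
      have := D.fact_add t
      omega
    rw [h.odd_fact ht (by omega), factorial_factorization ht hnt] at e1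
    calc (Nat.card N).factorization t * t ≤ n / t * t := Nat.mul_le_mul_right t e1
      _ ≤ n := Nat.div_mul_le_self n t
  have hdr := dvd_pow_sub_one D ht hr (by omega) (by omega) (by omega) (by omega) hgr
  have hds := dvd_pow_sub_one D ht hs (by omega) (by omega) h3 (by omega) hgs
  have hcop : r.Coprime s := (Nat.coprime_primes hr hs).2 (by omega)
  have ht9 : 9 ≤ t := by omega
  generalize (Nat.card N).factorization t = a at *
  have ha4 : a ≤ 4 := by
    by_contra hlt
    have : 5 * t ≤ a * t := Nat.mul_le_mul_right t (by omega)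
    omega
  have hr0 : ¬ r ∣ t - 1 := fun hd => by
    have := Nat.le_of_dvd (by omega) hd
    omega
  have hs0 : ¬ s ∣ t - 1 := fun hd => by
    have := Nat.le_of_dvd (by omega) hd
    omega
  obtain ⟨u, rfl⟩ : ∃ u, t = u + 1 := ⟨t - 1, by omega⟩
  rw [Nat.add_sub_cancel] at hr0 hs0
  interval_cases a
  · exact ha0 rfl
  · rw [pow_one, Nat.add_sub_cancel] at hdr
    exact hr0 hdr
  · have e : (u + 1) ^ 2 - 1 = u * (u + 2) := by
      have : (u + 1) ^ 2 = u * (u + 2) + 1 := by ring
      omega
    rw [e] at hdr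
    have h6 := (hr.dvd_mul.1 hdr).resolve_left hr0
    have := Nat.le_of_dvd (by omega) h6
    omega
  · have e : (u + 1) ^ 3 - 1 = u * (u ^ 2 + 3 * u + 3) := by
      have : (u + 1) ^ 3 = u * (u ^ 2 + 3 * u + 3) + 1 := by ring
      omega
    rw [e] at hdr hds
    have h6 := (hr.dvd_mul.1 hdr).resolve_left hr0
    have h7 := (hs.dvd_mul.1 hds).resolve_left hs0
    have h8 := Nat.le_of_dvd (by positivity) (hcop.mul_dvd_of_dvd_of_dvd h6 h7)
    nlinarith
  · have e : (u + 1) ^ 4 - 1 = u * ((u + 2) * (u ^ 2 + 2 * u + 2)) := by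
      have : (u + 1) ^ 4 = u * ((u + 2) * (u ^ 2 + 2 * u + 2)) + 1 := by ring
      omega
    rw [e] at hdr hds
    have h6 := (hr.dvd_mul.1 hdr).resolve_left hr0
    have h7 := (hs.dvd_mul.1 hds).resolve_left hs0
    have hr2 : ¬ r ∣ u + 2 := fun hd => by
      have := Nat.le_of_dvd (by omega) hd
      omega
    have hs2 : ¬ s ∣ u + 2 := fun hd => by
      have := Nat.le_of_dvd (by omega) hd
      omega
    have h6' := (hr.dvd_mul.1 h6).resolve_left hr2
    have h7' := (hs.dvd_mul.1 h7).resolve_left hs2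
    have h8 := Nat.le_of_dvd (by positivity) (hcop.mul_dvd_of_dvd_of_dvd h6' h7')
    nlinarith

/-- `n < 5 t`, `2 t ≤ n`, `n ≥ 41`: `t ∤ |G/N : M|` -/
theorem not_dvd_index (D : Data G n N M) (h : Cs.Hyp G n) (hn : 41 ≤ n) {r s : ℕ} (hr : r.Prime) (hs : s.Prime)
    (h1 : 4 * n < 5 * r) (h2 : r < s) (h3 : s ≤ n) (hgr : Good G n r) (hgs : Good G n s) {t : ℕ} (ht : t.Prime)
    (h5 : n < 5 * t) (h2t : 2 * t ≤ n) : ¬ t ∣ M.index := by
  intro hd
  have hdr := dvd_sub_one D h (by omega) ht hr (by omega) (by omega) (by omega) (by omega) hgr hd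
  have hds := dvd_sub_one D h (by omega) ht hs (by omega) (by omega) h3 (by omega) hgs hd
  obtain ⟨c, hc⟩ := hdr
  obtain ⟨d, hd'⟩ := hds
  obtain ⟨x, hx⟩ := hr.odd_of_ne_two (by omega)
  obtain ⟨y, hy⟩ := hs.odd_of_ne_two (by omega)
  obtain ⟨z, hz⟩ := ht.odd_of_ne_two (by omega)
  have hd5 : d < 5 := by
    by_contra hlt
    have : t * 5 ≤ t * d := Nat.mul_le_mul_left t (by omega)
    omega
  have hcd : c < d := by
    by_contra hlt
    have : t * d ≤ t * c := Nat.mul_le_mul_left t (by omega)
    omega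
  interval_cases d <;> interval_cases c <;> omega

/-- **All primes `t > n / 5` divide `|M|` as often as `n!`.** -/
theorem vt_eq (D : Data G n N M) (h : Cs.Hyp G n) (hn : 41 ≤ n) {r s : ℕ} (hr : r.Prime) (hs : s.Prime)
    (h1 : 4 * n < 5 * r) (h2 : r < s) (h3 : s ≤ n) (hgr : Good G n r) (hgs : Good G n s) {t : ℕ} (ht : t.Prime)
    (h5 : n < 5 * t) (htn : t ≤ n) : (Nat.card M).factorization t = n / t := by
  have hnt : n < t * t := by
    have : 5 ≤ t := by omega
    nlinarith
  have ht2 : t ≠ 2 := by omega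
  rw [← factorial_factorization ht hnt, ← h.odd_fact ht ht2, D.fact_add t]
  by_cases h2t : 2 * t ≤ n
  · rw [fact_N D h hn hr hs h1 h2 h3 hgr hgs ht h5 h2t,
      Nat.factorization_eq_zero_of_not_dvd (not_dvd_index D h hn hr hs h1 h2 h3 hgr hgs ht h5 h2t)]
    omega
  · obtain ⟨e1, e2, e3⟩ := fact_large D h (by omega) ht (by omega) htn
    omega

/-- `B n` divides `|M|` -/
theorem B_dvd (D : Data G n N M) (h : Cs.Hyp G n) (hn : 41 ≤ n) : Cheb.B n ∣ Nat.card M := by
  obtain ⟨r, s, hr, hs, h1, h2, h3, h4⟩ := h.exists_start hn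
  apply B_dvd_of
  · exact Nat.card_pos.ne'
  · intro t ht h5 h6
    exact (vt_eq D h hn hr hs h1 h2 h3 (h4 r hr le_rfl (by omega)) (h4 s hs h2.le h3) ht h5 h6).ge

end A

theorem exists_alt (T : OrderTable.{u}) {G : Type u} [Group G] [Finite G] {n : ℕ} {N : Subgroup G} [N.Normal]
    {M : Subgroup (G ⧸ N)} (D : Data G n N M) (h : Cs.Hyp G n) (hn : 13 ≤ n) (hk : IsKnownSimple' M) :
    ∃ m, Nonempty (M ≃* alternatingGroup (Fin m)) := by
  have hdvd : Nat.card M ∣ n ! := D.card_dvd.trans h.card_dvd
  rcases Nat.lt_or_ge n 41 with h41 | h41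
  · have key : ∀ {l : List (ℕ × ℕ)} {b : ℕ} {L : List ℕ}, Small.chk l b.factorial L = true → n ≤ b →
        (∀ p ∈ L, p.Prime ∧ b < 2 * p ∧ p ≤ n) → ∃ m, Nonempty (M ≃* alternatingGroup (Fin m)) := by
      intro l b L hchk hnb hL
      refine Main.of_chk T hk D.nonab hchk (hdvd.trans (Nat.factorial_dvd_factorial hnb)) fun p hp => ?_
      obtain ⟨h1, h2, h3⟩ := hL p hp
      exact D.primes p h1 (by omega) h3
    rcases Nat.lt_or_ge n 17 with h17 | h17
    · refine key (b := 16) (by rw [show Nat.factorial 16 = 20922789888000 by rfl]; exact Small.chk13) (by omega) ?_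
      intro p hp
      simp only [List.mem_cons, List.not_mem_nil, or_false] at hp
      rcases hp with rfl | rfl <;> exact ⟨by norm_num, by norm_num, by omega⟩
    rcases Nat.lt_or_ge n 19 with h19 | h19
    · refine key (b := 18) (by rw [show Nat.factorial 18 = 6402373705728000 by rfl]; exact Small.chk17) (by omega) ?_
      intro p hp
      simp only [List.mem_cons, List.not_mem_nil, or_false] at hp
      rcases hp with rfl | rfl | rfl <;> exact ⟨by norm_num, by norm_num, by omega⟩
    rcases Nat.lt_or_ge n 23 with h23 | h23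
    · refine key (b := 22) (by rw [show Nat.factorial 22 = 1124000727777607680000 by rfl]; exact Small.chk19) (by omega) ?_
      intro p hp
      simp only [List.mem_cons, List.not_mem_nil, or_false] at hp
      rcases hp with rfl | rfl | rfl <;> exact ⟨by norm_num, by norm_num, by omega⟩
    rcases Nat.lt_or_ge n 29 with h29 | h29
    · refine key (b := 28) (by rw [show Nat.factorial 28 = 304888344611713860501504000000 by rfl]; exact Small.chk23) (by omega) ?_
      intro p hp
      simp only [List.mem_cons, List.not_mem_nil, or_false] at hp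
      rcases hp with rfl | rfl | rfl <;> exact ⟨by norm_num, by norm_num, by omega⟩
    rcases Nat.lt_or_ge n 31 with h31 | h31
    · refine key (b := 30) (by rw [show Nat.factorial 30 = 265252859812191058636308480000000 by rfl]; exact Small.chk29) (by omega) ?_
      intro p hp
      simp only [List.mem_cons, List.not_mem_nil, or_false] at hp
      rcases hp with rfl | rfl | rfl | rfl <;> exact ⟨by norm_num, by norm_num, by omega⟩
    rcases Nat.lt_or_ge n 37 with h37 | h37
    · refine key (b := 36) (by rw [show Nat.factorial 36 = 371993326789901217467999448150835200000000 by rfl]; exact Small.chk31) (by omega) ?_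
      intro p hp
      simp only [List.mem_cons, List.not_mem_nil, or_false] at hp
      rcases hp with rfl | rfl | rfl | rfl <;> exact ⟨by norm_num, by norm_num, by omega⟩
    · refine key (b := 40) (by rw [show Nat.factorial 40 = 815915283247897734345611269596115894272000000000 by rfl]; exact Small.chk37) (by omega) ?_
      intro p hp
      simp only [List.mem_cons, List.not_mem_nil, or_false] at hp
      rcases hp with rfl | rfl | rfl | rfl <;> exact ⟨by norm_num, by norm_num, by omega⟩
  · obtain ⟨g, hr, ho⟩ := exists_shape T hk D.nonab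
    obtain ⟨m, rfl⟩ := LieBound.arith h41 hdvd (B_dvd D h h41) D.primes ho
    exact ⟨m, hr⟩

end Cfsg.Agent.H427.Cs
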