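import Mathlib
import Cfsg.Agent.H427.CsCent
import Cfsg.Agent.H427.CsLarge
import Cfsg.Agent.H357.SmallFin

/-!
# The degree of the alternating section is `n` (helper427)
-/

set_option autoImplicit false

namespace Cfsg.Agent.H427.Cs

open Subgroup Nat Cfsg Cfsg.Agent.H357.Reduce Cfsg.Agent.H357

universe u

/-! ### numbers -/

theorem factorial_lt {m p n : ℕ} (hpm : p ≤ m) (hmn : m < n) (hn : n < 2 * p) :
    2 * (m ! * (n - p)!) < n ! * (m - p)! := by
  induction n, hmn using Nat.le_induction with
  | base =>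
    have e1 : (m + 1)! = (m + 1) * m ! := Nat.factorial_succ m
    have e2 : (m + 1 - p)! = (m + 1 - p) * (m - p)! := by
      rw [show m + 1 - p = (m - p) + 1 by omega, Nat.factorial_succ]
    rw [Nat.succ_eq_add_one, e1, e2]
    have h1 : 0 < m ! * (m - p)! := Nat.mul_pos (Nat.factorial_pos _) (Nat.factorial_pos _)
    calc 2 * (m ! * ((m + 1 - p) * (m - p)!)) = 2 * (m + 1 - p) * (m ! * (m - p)!) := by ring
      _ < (m + 1) * (m ! * (m - p)!) := Nat.mul_lt_mul_of_pos_right (by omega) h1
      _ = (m + 1) * m ! * (m - p)! := by ring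
  | succ n hmn ih =>
    have ih' := ih (by omega)
    have hmn' : m + 1 ≤ n := hmn
    rw [Nat.factorial_succ n, show n + 1 - p = (n - p) + 1 by omega, Nat.factorial_succ (n - p)]
    calc 2 * (m ! * ((n - p + 1) * (n - p)!)) = (n - p + 1) * (2 * (m ! * (n - p)!)) := by ring
      _ ≤ (n + 1) * (2 * (m ! * (n - p)!)) := Nat.mul_le_mul_right _ (by omega)
      _ < (n + 1) * (n ! * (m - p)!) := Nat.mul_lt_mul_of_pos_left ih' (by omega)
      _ = (n + 1) * n ! * (m - p)! := by ring

theorem fact_bound {t m n : ℕ} (ht : t.Prime) (hmn : m < n) :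
    (n !).factorization t < (m !).factorization t + Nat.log 2 n + (n - m) := by
  have h1 : n ! = n.choose m * m ! * (n - m)! := (Nat.choose_mul_factorial_mul_factorial hmn.le).symm
  have h2 : (n !).factorization t = (n.choose m).factorization t + (m !).factorization t + ((n - m)!).factorization t := by
    rw [h1, Nat.factorization_mul (Nat.mul_ne_zero (Nat.choose_pos hmn.le).ne' (Nat.factorial_ne_zero _))
      (Nat.factorial_ne_zero _), Nat.factorization_mul (Nat.choose_pos hmn.le).ne' (Nat.factorial_ne_zero _)]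
    rfl
  have h3 : (n.choose m).factorization t ≤ Nat.log 2 n :=
    Nat.factorization_choose_le_log.trans (Nat.log_anti_left (by norm_num) ht.two_le)
  have h4 := LieBound.mul_factorization_lt ht (n := n - m) (by omega)
  have h5 : ((n - m)!).factorization t ≤ (t - 1) * ((n - m)!).factorization t :=
    Nat.le_mul_of_pos_left _ (by have := ht.two_le; omega)
  omega

theorem log_bound {n : ℕ} (hn : 41 ≤ n) : 2 * (n + Nat.log 2 n + 2) < 3 * n := by
  have h1 : ∀ k : ℕ, 5 ≤ k → 2 * k + 4 < 2 ^ k := by
    intro k hk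
    induction k, hk using Nat.le_induction with
    | base => norm_num
    | succ k hk ih => rw [pow_succ]; omega
  have h2 : 2 ^ Nat.log 2 n ≤ n := Nat.pow_log_le_self 2 (by omega)
  rcases Nat.lt_or_ge (Nat.log 2 n) 5 with h3 | h3
  · omega
  · have := h1 _ h3
    omega

/-- `m` is large -/
theorem large_bound {m n : ℕ} (hn : 13 ≤ n) (hmax : ∀ q : ℕ, q.Prime → q ≤ n → q ≤ m)
    (h41 : 41 ≤ n → ∃ q : ℕ, q.Prime ∧ q ≤ n ∧ 4 * n < 5 * q) : n + Nat.log 2 n + 2 < 2 * m := by
  rcases Nat.lt_or_ge n 41 with h | h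
  · have key : ∀ q b c : ℕ, q.Prime → q ≤ n → n ≤ b → b < 2 ^ (c + 1) → b + c + 2 < 2 * q →
        n + Nat.log 2 n + 2 < 2 * m := by
      intro q b c hq h1 h2 h3 h4
      have h5 := hmax q hq h1
      have h6 : Nat.log 2 n ≤ c := by
        have : Nat.log 2 n < c + 1 := Nat.log_lt_of_lt_pow (by omega) (by omega)
        omega
      omega
    rcases Nat.lt_or_ge n 17 with h17 | h17
    · exact key 13 16 4 (by norm_num) (by omega) (by omega) (by norm_num) (by norm_num)
    rcases Nat.lt_or_ge n 19 with h19 | h19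
    · exact key 17 18 4 (by norm_num) (by omega) (by omega) (by norm_num) (by norm_num)
    rcases Nat.lt_or_ge n 23 with h23 | h23
    · exact key 19 22 4 (by norm_num) (by omega) (by omega) (by norm_num) (by norm_num)
    rcases Nat.lt_or_ge n 29 with h29 | h29
    · exact key 23 28 4 (by norm_num) (by omega) (by omega) (by norm_num) (by norm_num)
    rcases Nat.lt_or_ge n 31 with h31 | h31
    · exact key 29 30 4 (by norm_num) (by omega) (by omega) (by norm_num) (by norm_num)
    rcases Nat.lt_or_ge n 37 with h37 | h37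
    · exact key 31 36 5 (by norm_num) (by omega) (by omega) (by norm_num) (by norm_num)
    · exact key 37 40 5 (by norm_num) (by omega) (by omega) (by norm_num) (by norm_num)
  · obtain ⟨q, hq, h1, h2⟩ := h41 h
    have h3 := hmax q hq h1
    have h4 := log_bound h
    omega

/-- the centralizer of an element of large prime order -/
theorem card_centralizer_prime {m p : ℕ} (hp : p.Prime) (hm : m < 2 * p) (σ : Equiv.Perm (Fin m))
    (ho : orderOf σ = p) : cc σ = p * (m - p)! := by
  obtain ⟨k, hk⟩ := Equiv.Perm.cycleType_prime_order (σ := σ) (by rw [ho]; exact hp)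
  have h1 : σ.cycleType.sum ≤ m := by
    have := Equiv.Perm.sum_cycleType_le σ
    simpa using this
  rw [hk, ho, Multiset.sum_replicate, smul_eq_mul] at h1
  have hk0 : k = 0 := by
    by_contra h
    have : 2 * p ≤ (k + 1) * p := Nat.mul_le_mul_right p (by omega)
    omega
  subst hk0
  have hσ : σ.cycleType = {p} := by rw [hk, ho]; rfl
  unfold cc
  rw [Equiv.Perm.nat_card_centralizer, hσ, Fintype.card_fin, Multiset.sum_singleton, Multiset.prod_singleton,
    Multiset.toFinset_singleton, Finset.prod_singleton, Multiset.count_singleton_self, Nat.factorial_one, mul_one,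
    mul_comm]

/-- the class of an image under an injective homomorphism -/
theorem card_mul_cc_le {K S : Type*} [Group K] [Finite K] [Group S] [Finite S] (Θ : K →* S)
    (hΘ : Function.Injective Θ) (x : K) : Nat.card K * cc (Θ x) ≤ Nat.card S * cc x := by
  have h1 : (centralizer ({x} : Set K)).index ≤ (centralizer ({Θ x} : Set S)).index := by
    have h2 : (centralizer ({Θ x} : Set S)).comap Θ = centralizer ({x} : Set K) := by
      ext y
      rw [mem_comap, mem_centralizer_singleton_iff, mem_centralizer_singleton_iff, ← map_mul, ← map_mul]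
      exact ⟨fun h => hΘ h, fun h => by rw [h]⟩
    rw [← h2, Subgroup.index_comap]
    have h5 := Subgroup.relIndex_le_of_le_right (H := centralizer ({Θ x} : Set S)) (K := Θ.range) (L := ⊤) le_top
      (by rw [Subgroup.relIndex_top_right]; exact Subgroup.index_ne_zero_of_finite)
    rwa [Subgroup.relIndex_top_right] at h5
  have h3 := (centralizer ({x} : Set K)).card_mul_index
  have h4 := (centralizer ({Θ x} : Set S)).card_mul_index
  calc Nat.card K * cc (Θ x) = cc x * (centralizer ({x} : Set K)).index * cc (Θ x) := by rw [← h3]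
    _ ≤ cc x * (centralizer ({Θ x} : Set S)).index * cc (Θ x) :=
        Nat.mul_le_mul_right _ (Nat.mul_le_mul_left _ h1)
    _ = Nat.card S * cc x := by rw [← h4]; ring

/-- centralizer of `x` when `x` centralizes `N` and the order of `x` is prime to `|N|` -/
theorem cc_eq {G : Type*} [Group G] [Finite G] {p : ℕ} (hp : p.Prime) (N : Subgroup G) [N.Normal]
    (hpN : ¬ p ∣ Nat.card N) {x : G} (hx : orderOf x = p) (hc : ∀ y ∈ N, x * y = y * x) :
    cc x = Nat.card N * cc (QuotientGroup.mk' N x) := by
  have h1 : (centralizer ({QuotientGroup.mk' N x} : Set (G ⧸ N))).comap (QuotientGroup.mk' N) =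
      centralizer ({x} : Set G) := by
    apply le_antisymm
    · intro g hg
      rw [mem_comap, mem_centralizer_singleton_iff, ← map_mul, ← map_mul] at hg
      rw [mem_centralizer_singleton_iff]
      have h2 : g * x * (x * g)⁻¹ ∈ N := by
        rw [← QuotientGroup.eq_one_iff (N := N)]
        change QuotientGroup.mk' N (g * x * (x * g)⁻¹) = 1
        rw [map_mul, map_inv, hg, mul_inv_cancel]
      obtain ⟨u, hu⟩ : ∃ u, u = g * x * (x * g)⁻¹ := ⟨_, rfl⟩
      rw [← hu] at h2
      have h3 : g * x * g⁻¹ = u * x := by rw [hu]; group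
      have h4 : Commute u x := (hc u h2).symm
      have h5 : (u * x) ^ p = 1 := by
        rw [← h3, conj_pow, ← hx, pow_orderOf_eq_one]
        group
      rw [h4.mul_pow, ← hx, pow_orderOf_eq_one, mul_one, hx] at h5
      have h6 : orderOf u ∣ p := orderOf_dvd_of_pow_eq_one h5
      have h7 : u = 1 := by
        rcases (Nat.dvd_prime hp).mp h6 with h8 | h8
        · exact orderOf_eq_one_iff.mp h8
        · exfalso
          apply hpN
          rw [← h8, ← Subgroup.orderOf_mk u h2]
          exact orderOf_dvd_natCard _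
      rw [h7, one_mul] at h3
      calc g * x = g * x * g⁻¹ * g := by group
        _ = x * g := by rw [h3]
    · intro g hg
      rw [mem_centralizer_singleton_iff] at hg
      rw [mem_comap, mem_centralizer_singleton_iff, ← map_mul, ← map_mul, hg]
  have h2 : (centralizer ({QuotientGroup.mk' N x} : Set (G ⧸ N))).index = (centralizer ({x} : Set G)).index := by
    rw [← h1]
    exact (Subgroup.index_comap_of_surjective _ (QuotientGroup.mk'_surjective N)).symm
  have h3 := (centralizer ({x} : Set G)).card_mul_index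
  have h4 := (centralizer ({QuotientGroup.mk' N x} : Set (G ⧸ N))).card_mul_index
  have h5 := N.card_mul_index
  rw [Subgroup.index_eq_card, ← h4, ← h3, h2, ← mul_assoc] at h5
  exact (Nat.eq_of_mul_eq_mul_right (Nat.pos_of_ne_zero Subgroup.index_ne_zero_of_finite) h5).symm

variable {G : Type*} [Group G] [Finite G] {n : ℕ} {N : Subgroup G} [N.Normal] {M : Subgroup (G ⧸ N)}

/-- **the degree is `n`** -/
theorem degree_eq (D : Data G n N M) (h : Cs.Hyp G n) (hn : 13 ≤ n) {p : ℕ} (hp : p.Prime) (hnp : n < 2 * p)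
    (hpn : p ≤ n) (hmax : ∀ q : ℕ, q.Prime → q ≤ n → q ≤ p) (hg : Good G n p) {m : ℕ}
    (e : M ≃* alternatingGroup (Fin m)) (hM : 2 * Nat.card M = m !) : m = n := by
  have hpM : p ∣ Nat.card M := D.primes p hp hnp hpn
  have hMG : Nat.card M ∣ Nat.card G := D.card_dvd
  have hpm : p ≤ m := by
    rw [← hp.dvd_factorial, ← hM]
    exact hpM.mul_left 2
  have hmn : m ≤ n := by
    by_contra hlt
    have h1 : (n + 1)! ∣ 2 * n ! := by
      have h2 : (n + 1)! ∣ m ! := Nat.factorial_dvd_factorial (by omega)
      rw [← hM] at h2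
      exact h2.trans (Nat.mul_dvd_mul_left 2 (hMG.trans h.card_dvd))
    rw [Nat.factorial_succ] at h1
    have h2 : n + 1 ∣ 2 := Nat.dvd_of_mul_dvd_mul_right (Nat.factorial_pos n) h1
    have := Nat.le_of_dvd (by norm_num) h2
    omega
  by_contra hne
  have hlt : m < n := by omega
  have hm9 : 9 ≤ m := by
    have := hmax 13 (by norm_num) hn
    omega
  have hlarge := large_bound (m := m) hn (fun q hq hqn => (hmax q hq hqn).trans hpm) (fun h41 => by
    obtain ⟨r, s, hr, hs, h1, h2, h3, _⟩ := h.exists_start h41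
    exact ⟨r, hr, by omega, h1⟩)
  obtain ⟨hf1, hf2, hf3⟩ := fact_large D h (by omega) hp hnp hpn
  have hpN : ¬ p ∣ Nat.card N := by
    intro h1
    have := (hp.dvd_iff_one_le_factorization Nat.card_pos.ne').mp h1
    omega
  obtain ⟨c, hc2, hcG⟩ := h.card
  have hcard := card_eq N M
  -- the preimage of `M`
  let π : M.comap (QuotientGroup.mk' N) →* alternatingGroup (Fin m) :=
    e.toMonoidHom.comp ((QuotientGroup.mk' N).subgroupComap M)
  have hπ : Function.Surjective π :=
    e.surjective.comp (MonoidHom.subgroupComap_surjective_of_surjective _ M (QuotientGroup.mk'_surjective N))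
  have hNL : N ≤ M.comap (QuotientGroup.mk' N) := by
    intro x hx
    rw [mem_comap, show QuotientGroup.mk' N x = 1 from (QuotientGroup.eq_one_iff x).mpr hx]
    exact one_mem _
  have hker : π.ker = N.subgroupOf (M.comap (QuotientGroup.mk' N)) := by
    ext x
    rw [MonoidHom.mem_ker, mem_subgroupOf, ← QuotientGroup.eq_one_iff (N := N)]
    change e ((QuotientGroup.mk' N).subgroupComap M x) = 1 ↔ _
    rw [map_eq_one_iff e e.injective]
    constructor
    · intro h1
      exact congrArg Subtype.val h1
    · intro h1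
      exact Subtype.ext h1
  have hkc : Nat.card π.ker = Nat.card N := by
    rw [hker]
    exact Nat.card_congr (Subgroup.subgroupOfEquivOfLe hNL).toEquiv
  have hpA : p ∣ Nat.card (alternatingGroup (Fin m)) := by
    rw [← Nat.card_congr e.toEquiv]
    exact hpM
  have hLdvd : Nat.card (M.comap (QuotientGroup.mk' N)) ∣ Nat.card G := Subgroup.card_subgroup_dvd_card _
  have hp2 : ¬ p ^ 2 ∣ Nat.card (M.comap (QuotientGroup.mk' N)) := fun h1 => h.sq_not_dvd hp hnp hpn (h1.trans hLdvd)
  have hpL : p ∣ Nat.card (M.comap (QuotientGroup.mk' N)) := by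
    have h1 := Subgroup.card_range_dvd π
    rw [MonoidHom.range_eq_top.mpr hπ, Subgroup.card_top] at h1
    exact hpA.trans h1
  have hv : ∀ t : ℕ, t.Prime → (Nat.card π.ker).factorization t < m - 2 := by
    intro t ht
    rw [hkc]
    have h1 : Nat.card N * m ! ∣ 2 * n ! := by
      refine ⟨c * M.index, ?_⟩
      rw [← hcG, hcard, ← hM]
      ring
    have h2 : (Nat.card N * m !).factorization t ≤ (2 * n !).factorization t :=
      (Nat.factorization_le_iff_dvd (Nat.mul_ne_zero Nat.card_pos.ne' (Nat.factorial_ne_zero _))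
        (Nat.mul_ne_zero (by norm_num) (Nat.factorial_ne_zero _))).mpr h1 t
    rw [Nat.factorization_mul Nat.card_pos.ne' (Nat.factorial_ne_zero _),
      Nat.factorization_mul (by norm_num) (Nat.factorial_ne_zero _), Finsupp.add_apply, Finsupp.add_apply] at h2
    have h3 := fact_bound (n := n) ht hlt
    have h4 : (2 : ℕ).factorization t ≤ 1 := by
      rw [Nat.prime_two.factorization]
      rw [Finsupp.single_apply]
      split_ifs <;> omega
    omega
  have hpF : Fact p.Prime := ⟨hp⟩
  obtain ⟨y, hy⟩ := exists_prime_orderOf_dvd_card' p hpL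
  have hyc := centralizes_ker hm9 π hπ hp hpA hp2 hv y hy
  have hx : orderOf (y : G) = p := by rw [Subgroup.orderOf_coe]; exact hy
  have hxc : ∀ z ∈ N, (y : G) * z = z * y := by
    intro z hz
    have h1 : (⟨z, hNL hz⟩ : M.comap (QuotientGroup.mk' N)) ∈ π.ker := by
      rw [hker]
      exact mem_subgroupOf.mpr hz
    exact congrArg Subtype.val (hyc _ h1)
  have hcc := cc_eq hp N hpN hx hxc
  have hgood := Nat.le_of_dvd (Nat.mul_pos hp.pos (Nat.factorial_pos _)) (hg (y : G) hx)
  -- the symmetric group
  obtain ⟨Θ, hΘ⟩ := D.exists_hom' (by omega) (by omega) e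
  have hox : orderOf (QuotientGroup.mk' N (y : G)) = p := by
    have h1 : orderOf (QuotientGroup.mk' N (y : G)) ∣ p := by rw [← hx]; exact orderOf_map_dvd _ _
    rcases (Nat.dvd_prime hp).mp h1 with h2 | h2
    · exfalso
      rw [orderOf_eq_one_iff] at h2
      have h3 : (y : G) ∈ N := (QuotientGroup.eq_one_iff _).mp h2
      apply hpN
      rw [← hx, ← Subgroup.orderOf_mk (y : G) h3]
      exact orderOf_dvd_natCard _
    · exact h2
  have h5 := card_mul_cc_le Θ hΘ (QuotientGroup.mk' N (y : G))
  rw [card_centralizer_prime hp (by omega) (Θ (QuotientGroup.mk' N (y : G)))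
    (by rw [orderOf_injective Θ hΘ, hox])] at h5
  have hSm : Nat.card (Equiv.Perm (Fin m)) = m ! := by
    rw [Nat.card_eq_fintype_card, Fintype.card_perm, Fintype.card_fin]
  rw [hSm] at h5
  -- multiply by `|N|`
  have h6 : Nat.card G * (p * (m - p)!) ≤ m ! * (p * (n - p)!) := by
    have h7 : Nat.card G = Nat.card N * Nat.card (G ⧸ N) := by
      rw [← Subgroup.index_eq_card, N.card_mul_index]
    calc Nat.card G * (p * (m - p)!) = Nat.card N * (Nat.card (G ⧸ N) * (p * (m - p)!)) := by rw [h7]; ring
      _ ≤ Nat.card N * (m ! * cc (QuotientGroup.mk' N (y : G))) := Nat.mul_le_mul_left _ h5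
      _ = m ! * cc (y : G) := by rw [hcc]; ring
      _ ≤ m ! * (p * (n - p)!) := Nat.mul_le_mul_left _ hgood
  have h7 : n ! ≤ 2 * Nat.card G := by
    rw [← hcG]
    exact Nat.mul_le_mul_right _ (Nat.le_of_dvd (by norm_num) hc2)
  have h8 := factorial_lt hpm hlt hnp
  have h9 : p * (n ! * (m - p)!) ≤ p * (2 * (m ! * (n - p)!)) := by
    calc p * (n ! * (m - p)!) ≤ p * (2 * Nat.card G * (m - p)!) :=
          Nat.mul_le_mul_left _ (Nat.mul_le_mul_right _ h7)
      _ = 2 * (Nat.card G * (p * (m - p)!)) := by ring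
      _ ≤ 2 * (m ! * (p * (n - p)!)) := Nat.mul_le_mul_left _ h6
      _ = p * (2 * (m ! * (n - p)!)) := by ring
  have h10 := Nat.le_of_mul_le_mul_left h9 hp.pos
  omega

end Cfsg.Agent.H427.Cs
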