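import Mathlib
import Cfsg.Agent.H427.CsFin

/-!
# Groups with the order and the class sizes of `A_n` or `S_n` (helper427)

`main_of_data` : from the reduction with `M = A_n`; `main_large` : `n ≥ 13`.
-/

set_option autoImplicit false

namespace Cfsg.Agent.H427.Cs

open Subgroup Nat Cfsg Cfsg.Agent.OrdDiv Cfsg.Agent.H357.Reduce Cfsg.Agent.H357

universe u

/-- an element with a centralizer of odd order -/
theorem Hyp.exists_odd {G : Type*} [Group G] {n : ℕ} (h : Cs.Hyp G n) (hn : 5 ≤ n) {p s : ℕ} (hp : p.Prime)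
    (hs : s.Prime) (hns : n < 2 * s) (hsp : s < p) (hpn : p ≤ n) : ∃ g : G, Odd (cc g) := by
  obtain ⟨r, hr, hrn, hnr, hr2⟩ : ∃ r : ℕ, r.Prime ∧ r ≤ n ∧ n < 2 * r ∧ n ≠ r + 2 := by
    by_cases hc : n = p + 2
    · refine ⟨s, hs, by omega, hns, ?_⟩
      intro h1
      omega
    · exact ⟨p, hp, hpn, by omega, hc⟩
  have hodd : Odd r := hr.odd_of_ne_two (by omega)
  obtain ⟨l, hl1, hl2, hl3, hl4⟩ : ∃ l : Finset ℕ, (∀ i ∈ l, Odd i ∧ 3 ≤ i) ∧ r ∉ l ∧ ∑ i ∈ l, i + r ≤ n ∧
      n ≤ ∑ i ∈ l, i + r + 1 := by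
    by_cases h1 : n ≤ r + 1
    · exact ⟨∅, by simp, by simp, by simpa using hrn, by simpa using h1⟩
    · rcases Nat.even_or_odd (n - r) with h2 | h2
      · obtain ⟨k, hk⟩ := h2
        refine ⟨{n - r - 1}, ?_, ?_, ?_, ?_⟩
        · intro i hi
          rw [Finset.mem_singleton] at hi
          subst hi
          exact ⟨⟨k - 1, by omega⟩, by omega⟩
        · rw [Finset.mem_singleton]
          omega
        · rw [Finset.sum_singleton]
          omega
        · rw [Finset.sum_singleton]
          omega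
      · obtain ⟨k, hk⟩ := h2
        refine ⟨{n - r}, ?_, ?_, ?_, ?_⟩
        · intro i hi
          rw [Finset.mem_singleton] at hi
          subst hi
          exact ⟨⟨k, hk⟩, by omega⟩
        · rw [Finset.mem_singleton]
          omega
        · rw [Finset.sum_singleton]
          omega
        · rw [Finset.sum_singleton]
          omega
  obtain ⟨g, hg⟩ := h.exs r hr hodd hnr hrn l hl1 hl2 hl3 hl4
  refine ⟨g, ?_⟩
  rw [hg]
  exact hodd.mul (Finset.prod_induction _ Odd (fun a b ha hb => ha.mul hb) odd_one fun i hi => (hl1 i hi).1)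

/-- a normal subgroup of order two is central -/
theorem central_of_two {G : Type*} [Group G] {N : Subgroup G} [N.Normal] (hN : Nat.card N = 2) :
    ∀ z ∈ N, ∀ g : G, g * z = z * g := by
  have hfin : Finite N := Nat.finite_of_card_ne_zero (by omega)
  intro z hz g
  by_cases hz1 : z = 1
  · rw [hz1, mul_one, one_mul]
  · have h4 : g * z * g⁻¹ ∈ N := ‹N.Normal›.conj_mem z hz g
    have h5 : g * z * g⁻¹ ≠ 1 := by
      intro h6
      apply hz1
      have : z = g⁻¹ * (g * z * g⁻¹) * g := by group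
      rw [this, h6]
      group
    have h6 : ∀ a ∈ N, a ≠ 1 → a = z := by
      intro a ha ha1
      by_contra hne
      have h7 : ({1, z, a} : Set G) ⊆ N := by
        rintro y (rfl | rfl | rfl)
        · exact one_mem N
        · exact hz
        · exact ha
      have h8 := Set.ncard_le_ncard h7 (Set.toFinite _)
      rw [Set.ncard_eq_three.mpr ⟨1, z, a, Ne.symm hz1, Ne.symm ha1, Ne.symm hne, rfl⟩] at h8
      have h9 : (N : Set G).ncard = Nat.card N := (Nat.card_coe_set_eq _).symm
      omega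
    have h7 := h6 _ h4 h5
    calc g * z = g * z * g⁻¹ * g := by group
      _ = z * g := by rw [h7]

theorem alt_of_data {G : Type*} [Group G] [Finite G] {n : ℕ} {N : Subgroup G} [N.Normal] {M : Subgroup (G ⧸ N)}
    (e : M ≃* alternatingGroup (Fin n)) (hG : Nat.card G = Nat.card (alternatingGroup (Fin n))) :
    Nonempty (G ≃* alternatingGroup (Fin n)) := by
  have hcardG := card_eq N M
  have hMpos : 0 < Nat.card M := Nat.card_pos
  have h2 : Nat.card N * M.index = 1 := by
    rw [hG, ← Nat.card_congr e.toEquiv] at hcardG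
    apply Nat.eq_of_mul_eq_mul_right hMpos
    calc Nat.card N * M.index * Nat.card M = Nat.card N * (Nat.card M * M.index) := by ring
      _ = 1 * Nat.card M := by rw [← hcardG, one_mul]
  have hN1 : Nat.card N = 1 := Nat.eq_one_of_mul_eq_one_right h2
  have hI1 : M.index = 1 := Nat.eq_one_of_mul_eq_one_left h2
  have htop : M = ⊤ := Subgroup.index_eq_one.mp hI1
  have hsub : Function.Bijective M.subtype := by
    refine ⟨M.subtype_injective, ?_⟩
    intro x
    exact ⟨⟨x, by rw [htop]; exact mem_top x⟩, rfl⟩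
  exact ⟨(equivOf N (Subgroup.card_eq_one.mp hN1)).trans ((MulEquiv.ofBijective M.subtype hsub).symm.trans e)⟩

theorem perm_of_data {G : Type*} [Group G] [Finite G] {n : ℕ} {N : Subgroup G} [N.Normal] {M : Subgroup (G ⧸ N)}
    (e : M ≃* alternatingGroup (Fin n)) (hn : 2 ≤ n) (hG : Nat.card G = n !)
    (hodd : ∃ g : G, Odd (cc g)) (hΘ : ∃ Θ : (G ⧸ N) →* Equiv.Perm (Fin n), Function.Injective Θ) :
    Nonempty (G ≃* Equiv.Perm (Fin n)) := by
  have hcardG := card_eq N M
  have hMpos : 0 < Nat.card M := Nat.card_pos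
  have hm : 2 * Nat.card M = n ! := by
    rw [Nat.card_congr e.toEquiv]
    exact Cfsg.Agent.H363.AltPrimes.card_alternating hn
  obtain ⟨Θ, hΘ⟩ := hΘ
  have h2 : Nat.card N * M.index = 2 := by
    rw [hG, ← hm] at hcardG
    apply Nat.eq_of_mul_eq_mul_right hMpos
    rw [hcardG]
    ring
  have hidx : M.index ∣ 2 := ⟨Nat.card N, by rw [← h2, mul_comm]⟩
  rcases (Nat.dvd_prime Nat.prime_two).1 hidx with h3 | h3
  · exfalso
    rw [h3, mul_one] at h2
    obtain ⟨g, hg⟩ := hodd
    have h4 : N ≤ centralizer ({g} : Set G) := by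
      intro z hz
      rw [mem_centralizer_singleton_iff]
      exact (central_of_two h2 z hz g).symm
    have h5 := Subgroup.card_dvd_of_le h4
    rw [h2] at h5
    exact (Nat.not_even_iff_odd.mpr hg) (even_iff_two_dvd.mpr h5)
  · rw [h3] at h2
    have hN1 : Nat.card N = 1 := by omega
    have hbij : Function.Bijective Θ := by
      rw [Nat.bijective_iff_injective_and_card]
      refine ⟨hΘ, ?_⟩
      rw [Nat.card_eq_fintype_card (α := Equiv.Perm (Fin n)), Fintype.card_perm, Fintype.card_fin,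
        ← M.card_mul_index, h3, ← hm, mul_comm]
    exact ⟨(equivOf N (Subgroup.card_eq_one.mp hN1)).trans (MulEquiv.ofBijective Θ hbij)⟩

/-- large degrees: the data with `M = A_n` -/
theorem exists_data_large (T : OrderTable.{u}) {G : Type u} [Group G] [Finite G] {n : ℕ} (hn : 13 ≤ n) (h : Cs.Hyp G n)
    (hcl : ∀ (S : Type u) [Group S] [Finite S] [IsSimpleGroup S], IsKnownSimple' S) :
    ∃ (N : Subgroup G) (_ : N.Normal) (M : Subgroup (G ⧸ N)), Data G n N M ∧
      Nonempty (M ≃* alternatingGroup (Fin n)) := by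
  obtain ⟨p, s, hp, hs, h1, h2, h3, h4, h5⟩ := h.good_max (by omega) (by omega) (by omega)
  obtain ⟨N, hN, M, D⟩ := exists_data h (by omega) hp hs h1 h2 h3 h5
  have := D.simple
  obtain ⟨m, ⟨e⟩⟩ := exists_alt T D h hn (hcl M)
  have hm := degree_eq D h hn hp (by omega) h3 h4 h5 e (Main.two_mul_card D.nonab e)
  subst hm
  exact ⟨N, hN, M, D, ⟨e⟩⟩

theorem alt_large (T : OrderTable.{u}) {G : Type u} [Group G] [Finite G] {n : ℕ} (hn : 13 ≤ n)
    (hcard : Nat.card G = Nat.card (alternatingGroup (Fin n)))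
    (hcs : Set.range (fun g : G => (centralizer ({g} : Set G)).index) =
      Set.range (fun g : alternatingGroup (Fin n) => (centralizer ({g} : Set (alternatingGroup (Fin n)))).index))
    (hcl : ∀ (S : Type u) [Group S] [Finite S] [IsSimpleGroup S], IsKnownSimple' S) :
    Nonempty (G ≃* alternatingGroup (Fin n)) := by
  obtain ⟨N, hN, M, D, ⟨e⟩⟩ := exists_data_large T hn (hyp_of_alt (by omega) hcard hcs) hcl
  exact alt_of_data e hcard

theorem perm_large (T : OrderTable.{u}) {G : Type u} [Group G] [Finite G] {n : ℕ} (hn : 13 ≤ n)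
    (hcard : Nat.card G = Nat.card (Equiv.Perm (Fin n)))
    (hcs : Set.range (fun g : G => (centralizer ({g} : Set G)).index) =
      Set.range (fun g : Equiv.Perm (Fin n) => (centralizer ({g} : Set (Equiv.Perm (Fin n)))).index))
    (hcl : ∀ (S : Type u) [Group S] [Finite S] [IsSimpleGroup S], IsKnownSimple' S) :
    Nonempty (G ≃* Equiv.Perm (Fin n)) := by
  have h := hyp_of_perm hcard hcs
  obtain ⟨N, hN, M, D, ⟨e⟩⟩ := exists_data_large T hn h hcl
  obtain ⟨p, s, hp, hs, h1, h2, h3, _, _⟩ := h.good_max (by omega) (by omega) (by omega)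
  exact perm_of_data e (by omega) (by rw [hcard, Nat.card_eq_fintype_card, Fintype.card_perm, Fintype.card_fin])
    (h.exists_odd (by omega) hp hs h1 h2 h3) (D.exists_hom' (by omega) (by omega) e)

end Cfsg.Agent.H427.Cs
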