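import Cfsg.Agent.Lib.ProductSet

/-!
# Tools for the Thompson–Wielandt theorem

Largest normal `p`-subgroups of subgroups, elements acting trivially on a section.
-/

set_option autoImplicit false

namespace Cfsg.Agent.H427

open Subgroup
open scoped Pointwise

variable {G : Type*} [Group G]

theorem le_normalizer_of_conj {K H : Subgroup G} (h : ∀ k ∈ K, ∀ x ∈ H, k * x * k⁻¹ ∈ H) :
    K ≤ normalizer (H : Set G) := by
  intro k hk
  rw [mem_normalizer_iff]
  intro x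
  refine ⟨h k hk x, fun hx => ?_⟩
  have := h k⁻¹ (K.inv_mem hk) _ hx
  simpa [mul_assoc] using this

theorem conj_mem_of_mem_normalizer {H : Subgroup G} {k x : G} (hk : k ∈ normalizer (H : Set G))
    (hx : x ∈ H) : k * x * k⁻¹ ∈ H := (mem_normalizer_iff.1 hk x).1 hx

/-- `|HK| |H ∩ K| = |H| |K|`. -/
theorem card_sup_mul_card_inf {H K : Subgroup G} (h : H ≤ normalizer (K : Set G)) :
    Nat.card (H ⊔ K : Subgroup G) * Nat.card (H ⊓ K : Subgroup G) = Nat.card H * Nat.card K := by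
  rw [← Lib.ProductSet.card_mul_card_inf H K, ← coe_mul_of_left_le_normalizer_right H K h]
  rfl

/-- `Q` is the largest normal `p`-subgroup of the subgroup `H`. -/
structure IsOp (p : ℕ) (H Q : Subgroup G) : Prop where
  le : Q ≤ H
  norm : H ≤ normalizer (Q : Set G)
  isP : IsPGroup p Q
  max : ∀ X : Subgroup G, X ≤ H → H ≤ normalizer (X : Set G) → IsPGroup p X → X ≤ Q

theorem exists_isOp [Finite G] (p : ℕ) [Fact p.Prime] (H : Subgroup G) : ∃ Q, IsOp p H Q := by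
  obtain ⟨Q, ⟨hQH, hQn, hQp⟩, hmax⟩ := Set.Finite.exists_maximal
    (s := {X : Subgroup G | X ≤ H ∧ H ≤ normalizer (X : Set G) ∧ IsPGroup p X})
    (Set.toFinite _) ⟨⊥, bot_le, by
      apply le_normalizer_of_conj
      intro k _ x hx
      rw [mem_bot] at hx ⊢
      simp [hx], IsPGroup.of_bot⟩
  refine ⟨Q, hQH, hQn, hQp, fun X hXH hXn hXp => ?_⟩
  have h1 : IsPGroup p (X ⊔ Q : Subgroup G) :=
    hXp.to_sup_of_normal_right' hQp (hXH.trans hQn)
  have h2 : X ⊔ Q ≤ Q := by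
    apply hmax ⟨sup_le hXH hQH, ?_, h1⟩ le_sup_right
    apply le_normalizer_of_conj
    intro k hk x hx
    have hx' : x ∈ ((X ⊔ Q : Subgroup G) : Set G) := hx
    rw [coe_mul_of_left_le_normalizer_right X Q (hXH.trans hQn)] at hx'
    obtain ⟨a, ha, b, hb, rfl⟩ := hx'
    have e : k * (a * b) * k⁻¹ = (k * a * k⁻¹) * (k * b * k⁻¹) := by group
    change k * (a * b) * k⁻¹ ∈ _
    rw [e]
    exact mul_mem_sup (conj_mem_of_mem_normalizer (hXn hk) ha)
      (conj_mem_of_mem_normalizer (hQn hk) hb)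
  exact le_sup_left.trans h2

theorem IsOp.unique {p : ℕ} {H Q Q' : Subgroup G} (h : IsOp p H Q) (h' : IsOp p H Q') : Q = Q' :=
  le_antisymm (h'.max _ h.le h.norm h.isP) (h.max _ h'.le h'.norm h'.isP)

/-- conjugate of a subgroup -/
abbrev cj (g : G) (H : Subgroup G) : Subgroup G := H.map (MulAut.conj g).toMonoidHom

theorem mem_cj {g x : G} {H : Subgroup G} : x ∈ cj g H ↔ g⁻¹ * x * g ∈ H := by
  constructor
  · rintro ⟨y, hy, rfl⟩
    have : g⁻¹ * ((MulAut.conj g).toMonoidHom y) * g = y := by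
      simp [mul_assoc]
    rw [this]
    exact hy
  · intro h
    exact ⟨_, h, by simp [mul_assoc]⟩

theorem conj_mem_cj {g x : G} {H : Subgroup G} : g * x * g⁻¹ ∈ cj g H ↔ x ∈ H := by
  rw [mem_cj]
  have : g⁻¹ * (g * x * g⁻¹) * g = x := by group
  rw [this]

theorem cj_mono {g : G} {H K : Subgroup G} (h : H ≤ K) : cj g H ≤ cj g K := map_mono h

theorem cj_le_cj_iff {g : G} {H K : Subgroup G} : cj g H ≤ cj g K ↔ H ≤ K := by
  refine ⟨fun h x hx => ?_, cj_mono⟩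
  exact conj_mem_cj.mp (h (conj_mem_cj.mpr hx))

theorem cj_inv_cj (g : G) (H : Subgroup G) : cj g⁻¹ (cj g H) = H := by
  ext x
  rw [mem_cj, mem_cj]
  have : g⁻¹ * (g⁻¹⁻¹ * x * g⁻¹) * g = x := by group
  rw [this]

theorem cj_cj_inv (g : G) (H : Subgroup G) : cj g (cj g⁻¹ H) = H := by
  have := cj_inv_cj g⁻¹ H
  rwa [inv_inv] at this

theorem cj_injective (g : G) : Function.Injective (cj g : Subgroup G → Subgroup G) := by
  intro H K h
  rw [← cj_inv_cj g H, ← cj_inv_cj g K, h]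

theorem cj_mul (g h : G) (H : Subgroup G) : cj (g * h) H = cj g (cj h H) := by
  ext x
  rw [mem_cj, mem_cj, mem_cj]
  have : (g * h)⁻¹ * x * (g * h) = h⁻¹ * (g⁻¹ * x * g) * h := by group
  rw [this]

theorem cj_one (H : Subgroup G) : cj 1 H = H := by
  ext x
  rw [mem_cj]
  simp

theorem cj_bot (g : G) : cj g (⊥ : Subgroup G) = ⊥ := map_bot _

theorem cj_eq_bot {g : G} {H : Subgroup G} : cj g H = ⊥ ↔ H = ⊥ := by
  constructor
  · intro h
    apply cj_injective g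
    rw [h, cj_bot]
  · rintro rfl
    exact cj_bot g

theorem card_cj (g : G) (H : Subgroup G) : Nat.card (cj g H) = Nat.card H :=
  Nat.card_congr (H.equivMapOfInjective _ (MulAut.conj g).injective).symm.toEquiv

theorem mem_normalizer_iff_cj {g : G} {H : Subgroup G} : g ∈ normalizer (H : Set G) ↔ cj g H = H := by
  rw [mem_normalizer_iff]
  constructor
  · intro h
    ext x
    rw [mem_cj]
    have := h (g⁻¹ * x * g)
    have e : g * (g⁻¹ * x * g) * g⁻¹ = x := by group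
    rw [e] at this
    exact this
  · intro h x
    nth_rewrite 2 [← h]
    exact conj_mem_cj.symm

theorem cj_le_normalizer_cj {g : G} {H K : Subgroup G} (h : K ≤ normalizer (H : Set G)) :
    cj g K ≤ normalizer ((cj g H : Subgroup G) : Set G) := by
  intro x hx
  rw [mem_cj] at hx
  have h1 := h hx
  rw [mem_normalizer_iff_cj] at h1 ⊢
  rw [← cj_mul]
  have e : x * g = g * (g⁻¹ * x * g) := by group
  rw [e, cj_mul, h1]

theorem isPGroup_cj {p : ℕ} {g : G} {H : Subgroup G} (h : IsPGroup p H) : IsPGroup p (cj g H) :=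
  h.of_equiv (H.equivMapOfInjective _ (MulAut.conj g).injective)

theorem IsOp.conjOp {p : ℕ} {H Q : Subgroup G} (h : IsOp p H Q) (g : G) : IsOp p (cj g H) (cj g Q) := by
  refine ⟨cj_mono h.le, cj_le_normalizer_cj h.norm, isPGroup_cj h.isP, fun X hX hXn hXp => ?_⟩
  have h1 : cj g⁻¹ X ≤ Q := by
    apply h.max
    · rw [← cj_inv_cj g H]; exact cj_mono hX
    · rw [← cj_inv_cj g H]; exact cj_le_normalizer_cj hXn
    · exact isPGroup_cj hXp
  rw [← cj_cj_inv g X]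
  exact cj_mono h1

/-- If `Y` is normalised by `B` then so is its largest normal `p`-subgroup. -/
theorem IsOp.le_normalizer {p : ℕ} {Y Q B : Subgroup G} (h : IsOp p Y Q)
    (hB : B ≤ normalizer (Y : Set G)) : B ≤ normalizer (Q : Set G) := by
  intro b hb
  have h1 := h.conjOp b
  rw [mem_normalizer_iff_cj.mp (hB hb)] at h1
  rw [mem_normalizer_iff_cj]
  exact h1.unique h

/-- The elements of `B` acting trivially on `B₁ / Q₁`. -/
def centSec (B B₁ Q₁ : Subgroup G) (hB₁ : B ≤ normalizer (B₁ : Set G))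
    (hQ₁ : B ≤ normalizer (Q₁ : Set G)) : Subgroup G where
  carrier := {v | v ∈ B ∧ ∀ x ∈ B₁, v * x * v⁻¹ * x⁻¹ ∈ Q₁}
  mul_mem' := by
    rintro v w ⟨hv, hv'⟩ ⟨hw, hw'⟩
    refine ⟨B.mul_mem hv hw, fun x hx => ?_⟩
    have e : v * w * x * (v * w)⁻¹ * x⁻¹ =
        (v * (w * x * w⁻¹ * x⁻¹) * v⁻¹) * (v * x * v⁻¹ * x⁻¹) := by group
    rw [e]
    exact Q₁.mul_mem (conj_mem_of_mem_normalizer (hQ₁ hv) (hw' x hx)) (hv' x hx)
  one_mem' := ⟨B.one_mem, fun x _ => by simp⟩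
  inv_mem' := by
    rintro v ⟨hv, hv'⟩
    refine ⟨B.inv_mem hv, fun x hx => ?_⟩
    have h1 : v⁻¹ * x * v⁻¹⁻¹ ∈ B₁ := conj_mem_of_mem_normalizer (hB₁ (B.inv_mem hv)) hx
    rw [inv_inv] at h1
    have h2 := Q₁.inv_mem (hv' _ h1)
    have e : (v * (v⁻¹ * x * v) * v⁻¹ * (v⁻¹ * x * v)⁻¹)⁻¹ = v⁻¹ * x * v⁻¹⁻¹ * x⁻¹ := by group
    rwa [e] at h2

theorem centSec_le (B B₁ Q₁ : Subgroup G) (hB₁ : B ≤ normalizer (B₁ : Set G))
    (hQ₁ : B ≤ normalizer (Q₁ : Set G)) : centSec B B₁ Q₁ hB₁ hQ₁ ≤ B := fun _ h => h.1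

theorem le_normalizer_centSec (B B₁ Q₁ : Subgroup G) (hB₁ : B ≤ normalizer (B₁ : Set G))
    (hQ₁ : B ≤ normalizer (Q₁ : Set G)) :
    B ≤ normalizer ((centSec B B₁ Q₁ hB₁ hQ₁ : Subgroup G) : Set G) := by
  apply le_normalizer_of_conj
  rintro b hb v ⟨hv, hv'⟩
  refine ⟨B.mul_mem (B.mul_mem hb hv) (B.inv_mem hb), fun x hx => ?_⟩
  have h1 : b⁻¹ * x * b⁻¹⁻¹ ∈ B₁ := conj_mem_of_mem_normalizer (hB₁ (B.inv_mem hb)) hx
  rw [inv_inv] at h1
  have h2 := conj_mem_of_mem_normalizer (hQ₁ hb) (hv' _ h1)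
  have e : b * (v * (b⁻¹ * x * b) * v⁻¹ * (b⁻¹ * x * b)⁻¹) * b⁻¹ =
      b * v * b⁻¹ * x * (b * v * b⁻¹)⁻¹ * x⁻¹ := by group
  rwa [e] at h2

/-- A non-`p`-group has an element of prime order `≠ p`. -/
theorem exists_orderOf_coprime [Finite G] {p : ℕ} (hp : p.Prime) {P : Subgroup G}
    (h : ¬ IsPGroup p P) : ∃ x ∈ P, x ≠ 1 ∧ (orderOf x).Coprime p := by
  by_contra hcon
  push Not at hcon
  apply h
  haveI : Fact p.Prime := ⟨hp⟩
  rw [IsPGroup.iff_card]
  refine ⟨_, Nat.eq_prime_pow_of_unique_prime_dvd Nat.card_pos.ne' ?_⟩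
  intro q hq hqd
  by_contra hqp
  haveI : Fact q.Prime := ⟨hq⟩
  obtain ⟨x, hx⟩ := exists_prime_orderOf_dvd_card' (G := P) q hqd
  have hx1 : (x : G) ≠ 1 := by
    intro h1
    have : x = 1 := Subtype.ext h1
    rw [this, orderOf_one] at hx
    exact hq.one_lt.ne hx
  apply hcon x x.2 hx1
  rw [Subgroup.orderOf_coe, hx]
  exact (Nat.coprime_primes hq hp).mpr hqp

end Cfsg.Agent.H427
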