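import Mathlib

/-!
# The 2-part of the order of a permutation group

A permutation group on `n` points with `m` orbits has 2-part at most `2 ^ (n - m)`.
-/

set_option autoImplicit false

namespace Cfsg.Agent.H427

open MulAction

/-- the 2-adic valuation of `n!` is less than `n`. -/
theorem factorization_two_factorial_le (n : ℕ) : (Nat.factorial n).factorization 2 ≤ n - 1 := by
  have h := Nat.sub_one_mul_factorization_factorial (n := n) Nat.prime_two
  simp only [Nat.add_one_sub_one, one_mul] at h
  rcases Nat.eq_zero_or_pos n with rfl | hn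
  · simp
  rw [h]
  have : 1 ≤ (Nat.digits 2 n).sum := by
    by_contra hc
    have h0 : (Nat.digits 2 n).sum = 0 := by omega
    have h1 : ∀ d ∈ Nat.digits 2 n, d = 0 := by
      intro d hd
      have := List.le_sum_of_mem hd
      omega
    have h2 := Nat.getLast_digit_ne_zero 2 hn.ne'
    exact h2 (h1 _ (List.getLast_mem _))
  omega

variable {K Γ : Type*} [Group K] [MulAction K Γ] [Finite Γ]

/-- The order of a permutation group divides the product of the factorials of its orbit
lengths. -/
theorem card_range_dvd_prod [Fintype (orbitRel.Quotient K Γ)] :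
    Nat.card (toPermHom K Γ).range ∣
      ∏ O : orbitRel.Quotient K Γ, Nat.factorial (Nat.card O.orbit) := by
  classical
  let f : K →* ((O : orbitRel.Quotient K Γ) → Equiv.Perm O.orbit) :=
    MonoidHom.pi fun O => toPermHom K O.orbit
  have hker : f.ker = (toPermHom K Γ).ker := by
    ext k
    rw [MonoidHom.mem_ker, MonoidHom.mem_ker]
    constructor
    · intro h
      ext γ
      have h1 := congrFun h (⟦γ⟧ : orbitRel.Quotient K Γ)
      have h2 := Equiv.congr_fun h1 ⟨γ, by
        rw [orbitRel.Quotient.mem_orbit]⟩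
      exact congrArg Subtype.val h2
    · intro h
      funext O
      ext γ
      have h1 := Equiv.congr_fun h (γ : Γ)
      exact h1
  have h1 : Nat.card (toPermHom K Γ).range = Nat.card f.range := by
    rw [← Subgroup.index_ker, ← Subgroup.index_ker, hker]
  rw [h1]
  have h2 := Subgroup.card_subgroup_dvd_card f.range
  rw [Nat.card_pi] at h2
  simpa [Nat.card_perm] using h2

/-- Numbers of points and orbits. -/
theorem card_nonrep [Fintype (orbitRel.Quotient K Γ)] :
    Nat.card {γ : Γ // Quotient.out (⟦γ⟧ : orbitRel.Quotient K Γ) ≠ γ} =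
      ∑ O : orbitRel.Quotient K Γ, (Nat.card O.orbit - 1) := by
  classical
  haveI := Fintype.ofFinite Γ
  have h1 : Nat.card Γ = ∑ O : orbitRel.Quotient K Γ, Nat.card O.orbit := by
    rw [Nat.card_congr (selfEquivSigmaOrbits' K Γ), Nat.card_sigma]
  have h2 : Nat.card {γ : Γ // Quotient.out (⟦γ⟧ : orbitRel.Quotient K Γ) = γ} =
      Fintype.card (orbitRel.Quotient K Γ) := by
    rw [← Nat.card_eq_fintype_card]
    refine Nat.card_congr ⟨fun γ => ⟦γ.1⟧, fun O => ⟨O.out, by rw [Quotient.out_eq]⟩, ?_, ?_⟩
    · rintro ⟨γ, hγ⟩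
      exact Subtype.ext hγ
    · intro O
      exact Quotient.out_eq O
  have h3 : Nat.card {γ : Γ // Quotient.out (⟦γ⟧ : orbitRel.Quotient K Γ) = γ} +
      Nat.card {γ : Γ // Quotient.out (⟦γ⟧ : orbitRel.Quotient K Γ) ≠ γ} = Nat.card Γ := by
    rw [Nat.card_eq_fintype_card, Nat.card_eq_fintype_card, Nat.card_eq_fintype_card,
      Fintype.card_subtype_compl]
    have := Fintype.card_subtype_le (fun γ : Γ => Quotient.out (⟦γ⟧ : orbitRel.Quotient K Γ) = γ)
    omega
  have h4 : ∑ O : orbitRel.Quotient K Γ, Nat.card O.orbit =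
      ∑ O : orbitRel.Quotient K Γ, (Nat.card O.orbit - 1) + Fintype.card (orbitRel.Quotient K Γ) := by
    rw [← Finset.card_univ, Finset.card_eq_sum_ones, ← Finset.sum_add_distrib]
    refine Finset.sum_congr rfl fun O _ => ?_
    have : 0 < Nat.card O.orbit := by
      haveI : Nonempty O.orbit := (orbitRel.Quotient.nonempty_orbit O).to_subtype
      exact Nat.card_pos
    omega
  omega

/-- If the order of a permutation group is divisible by `4 ^ (n - m)`, where `n` is the number
of points and `m` the number of orbits, then it acts trivially. -/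
theorem smul_eq_of_four_pow_dvd
    (h : 4 ^ (Nat.card {γ : Γ // Quotient.out (⟦γ⟧ : orbitRel.Quotient K Γ) ≠ γ}) ∣
      Nat.card (toPermHom K Γ).range) (k : K) (γ : Γ) : k • γ = γ := by
  classical
  haveI := Fintype.ofFinite (orbitRel.Quotient K Γ)
  have h1 := h.trans card_range_dvd_prod
  set m := Nat.card {γ : Γ // Quotient.out (⟦γ⟧ : orbitRel.Quotient K Γ) ≠ γ} with hm
  have hne : ∏ O : orbitRel.Quotient K Γ, Nat.factorial (Nat.card O.orbit) ≠ 0 :=
    Finset.prod_ne_zero_iff.mpr fun O _ => Nat.factorial_ne_zero _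
  have h2 := (Nat.factorization_le_iff_dvd (by positivity) hne).mpr h1 2
  rw [Nat.factorization_prod (fun O _ => Nat.factorial_ne_zero _)] at h2
  rw [Nat.factorization_pow] at h2
  have h4 : (4 : ℕ).factorization 2 = 2 := by
    have : (4 : ℕ) = 2 ^ 2 := by norm_num
    rw [this, Nat.Prime.factorization_pow Nat.prime_two]
    simp
  simp only [Finsupp.smul_apply, smul_eq_mul, h4, Finsupp.finsetSum_apply] at h2
  have h5 : ∑ O : orbitRel.Quotient K Γ, (Nat.factorial (Nat.card O.orbit)).factorization 2 ≤
      ∑ O : orbitRel.Quotient K Γ, (Nat.card O.orbit - 1) :=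
    Finset.sum_le_sum fun O _ => factorization_two_factorial_le _
  rw [← card_nonrep, ← hm] at h5
  have h6 : m = 0 := by omega
  rw [hm, Nat.card_eq_zero] at h6
  have h7 : ∀ γ : Γ, Quotient.out (⟦γ⟧ : orbitRel.Quotient K Γ) = γ := by
    rcases h6 with h6 | h6
    · intro γ
      by_contra hc
      exact h6.false ⟨γ, hc⟩
    · exact absurd h6 (by rw [not_infinite_iff_finite]; infer_instance)
  rw [← h7 (k • γ), ← h7 γ]
  congr 1
  rw [h7]
  exact Quotient.sound ⟨k, rfl⟩

end Cfsg.Agent.H427
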