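import Cfsg.Agent.H427.TWBasic
import Cfsg.Agent.SignalizersComponents.Components

/-!
# Simple subnormal subgroups of a subgroup

`comps H`: the non-abelian simple subnormal subgroups of the subgroup `H`.
-/

set_option autoImplicit false

namespace Cfsg.Agent.H427

open Subgroup
open scoped Pointwise

variable {G : Type*} [Group G]

/-- `L` is a subnormal subgroup of the subgroup `H`. -/
def SubnIn (L H : Subgroup G) : Prop := L ≤ H ∧ (L.subgroupOf H).IsSubnormal

theorem SubnIn.of_normal {L H : Subgroup G} (h : L ≤ H) (hn : H ≤ normalizer (L : Set G)) :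
    SubnIn L H := by
  refine ⟨h, Normal.isSubnormal ?_⟩
  exact (normal_subgroupOf_iff_le_normalizer h).mpr hn

theorem SubnIn.mono_right {L K H : Subgroup G} (h : SubnIn L H) (hLK : L ≤ K) (hKH : K ≤ H) :
    SubnIn L K := by
  refine ⟨hLK, ?_⟩
  have : L.subgroupOf K = (L.subgroupOf H).comap (inclusion hKH) := by
    ext x
    rfl
  rw [this]
  exact h.2.comap _

theorem SubnIn.trans {L K H : Subgroup G} (h1 : SubnIn L K) (h2 : SubnIn K H) : SubnIn L H := by
  refine ⟨h1.1.trans h2.1, ?_⟩
  apply IsSubnormal.trans (K := K.subgroupOf H)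
  · exact fun x hx => h1.1 hx
  · have : (L.subgroupOf H).subgroupOf (K.subgroupOf H) =
        (L.subgroupOf K).comap (subgroupOfEquivOfLe h2.1).toMonoidHom := by
      ext x
      rfl
    rw [this]
    exact h1.2.comap _
  · exact h2.2

theorem SubnIn.cj {L H : Subgroup G} (h : SubnIn L H) (g : G) : SubnIn (cj g L) (cj g H) := by
  refine ⟨cj_mono h.1, ?_⟩
  have : (H427.cj g L).subgroupOf (H427.cj g H) =
      (L.subgroupOf H).map (H.equivMapOfInjective _ (MulAut.conj g).injective).toMonoidHom := by
    ext ⟨x, hx⟩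
    rw [mem_subgroupOf]
    change x ∈ H427.cj g L ↔ _
    constructor
    · intro hxL
      rw [mem_cj] at hxL hx
      refine ⟨⟨g⁻¹ * x * g, hx⟩, hxL, ?_⟩
      apply Subtype.ext
      change g * (g⁻¹ * x * g) * g⁻¹ = x
      group
    · rintro ⟨y, hy, hyx⟩
      have : x = (MulAut.conj g) (y : G) := congrArg Subtype.val hyx.symm
      rw [this]
      exact ⟨y, hy, rfl⟩
  rw [this]
  exact h.2.map (H.equivMapOfInjective _ (MulAut.conj g).injective).surjective

/-- a non-abelian simple group has trivial centre. -/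
theorem center_eq_bot_of_simple {S : Type*} [Group S] (hs : IsSimpleGroup S)
    (hc : ¬ IsMulCommutative S) : center S = ⊥ := by
  rcases hs.eq_bot_or_eq_top_of_normal (center S) inferInstance with h | h
  · exact h
  · exfalso
    apply hc
    refine ⟨⟨fun x y => ?_⟩⟩
    have : x ∈ center S := by rw [h]; trivial
    exact ((mem_center_iff.mp this) y).symm

theorem isQuasisimple_of_simple {S : Type*} [Group S] (hs : IsSimpleGroup S)
    (hc : ¬ IsMulCommutative S) : Cfsg.IsQuasisimple S := by
  constructor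
  · rw [Group.isPerfect_def]
    rcases hs.eq_bot_or_eq_top_of_normal (commutator S) inferInstance with h | h
    · exfalso
      apply hc
      refine ⟨⟨fun x y => ?_⟩⟩
      have h1 := commutator_mem_commutator (H₁ := (⊤ : Subgroup S)) (H₂ := (⊤ : Subgroup S))
        (mem_top x) (mem_top y)
      rw [← commutator_def, h, mem_bot, commutatorElement_eq_one_iff_mul_comm] at h1
      exact h1
    · exact h
  · have e : S ⧸ center S ≃* S := by
      have e1 : S ⧸ center S ≃* S ⧸ (⊥ : Subgroup S) :=
        QuotientGroup.quotientMulEquivOfEq (center_eq_bot_of_simple hs hc)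
      exact e1.trans QuotientGroup.quotientBot
    exact (MulEquiv.isSimpleGroup_congr e).mpr hs

/-- The non-abelian simple subnormal subgroups of `H`. -/
def comps (H : Subgroup G) : Set (Subgroup G) :=
  {L | SubnIn L H ∧ IsSimpleGroup L ∧ ¬ IsMulCommutative L}

theorem isMulCommutative_congr {S T : Type*} [Group S] [Group T] (e : S ≃* T)
    (h : IsMulCommutative S) : IsMulCommutative T :=
  ⟨⟨fun x y => e.symm.injective (by rw [map_mul, map_mul]; exact h.is_comm.comm _ _)⟩⟩

theorem cj_mem_comps {L H : Subgroup G} (h : L ∈ comps H) (g : G) : cj g L ∈ comps (cj g H) := by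
  obtain ⟨h1, h2, h3⟩ := h
  have e : L ≃* (cj g L) := L.equivMapOfInjective _ (MulAut.conj g).injective
  exact ⟨h1.cj g, (MulEquiv.isSimpleGroup_congr e).mp h2, fun hc => h3 (isMulCommutative_congr e.symm hc)⟩

theorem cj_mem_comps_self {L H : Subgroup G} (h : L ∈ comps H) {g : G} (hg : g ∈ H) :
    cj g L ∈ comps H := by
  have h1 := cj_mem_comps h g
  have h2 : cj g H = H := mem_normalizer_iff_cj.mp (le_normalizer hg)
  rwa [h2] at h1

theorem comps_commute {L M H : Subgroup G} (hL : L ∈ comps H) (hM : M ∈ comps H) (hne : L ≠ M) :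
    ∀ x ∈ L, ∀ y ∈ M, x * y = y * x := by
  have hcL : Cfsg.IsComponent (L.subgroupOf H) :=
    ⟨hL.1.2, SignalizersComponents.Components.isQuasisimple_of_mulEquiv
      (subgroupOfEquivOfLe hL.1.1).symm (isQuasisimple_of_simple hL.2.1 hL.2.2)⟩
  have hcM : Cfsg.IsComponent (M.subgroupOf H) :=
    ⟨hM.1.2, SignalizersComponents.Components.isQuasisimple_of_mulEquiv
      (subgroupOfEquivOfLe hM.1.1).symm (isQuasisimple_of_simple hM.2.1 hM.2.2)⟩
  have hne' : L.subgroupOf H ≠ M.subgroupOf H := by
    intro h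
    apply hne
    have := congrArg (fun K => K.map H.subtype) h
    simpa [subgroupOf_map_subtype, inf_eq_left.mpr hL.1.1, inf_eq_left.mpr hM.1.1] using this
  have h1 := SignalizersComponents.Components.component_le_centralizer_of_ne hcL hcM hne'
  intro x hx y hy
  have h2 : (⟨x, hL.1.1 hx⟩ : H) ∈ centralizer ((M.subgroupOf H : Subgroup H) : Set H) :=
    h1 (mem_subgroupOf.mpr hx)
  have h3 := mem_centralizer_iff.mp h2 ⟨y, hM.1.1 hy⟩ (mem_subgroupOf.mpr hy)
  exact (congrArg Subtype.val h3).symm

/-- transfer of simple subnormal subgroups -/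
theorem comps_of_subnIn {L H K : Subgroup G} (hL : L ∈ comps H) (hLK : SubnIn L K) :
    L ∈ comps K := ⟨hLK, hL.2⟩

/-- elements of `L` commuting with all of `L` are trivial. -/
theorem eq_one_of_commute {L H : Subgroup G} (hL : L ∈ comps H) {x : G} (hx : x ∈ L)
    (h : ∀ y ∈ L, x * y = y * x) : x = 1 := by
  have h1 := center_eq_bot_of_simple hL.2.1 hL.2.2
  have h2 : (⟨x, hx⟩ : L) ∈ center L := by
    rw [mem_center_iff]
    intro y
    exact Subtype.ext (h y y.2).symm
  rw [h1, mem_bot] at h2
  exact congrArg Subtype.val h2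

theorem comps_ne_bot {L H : Subgroup G} (hL : L ∈ comps H) : L ≠ ⊥ := by
  rintro rfl
  haveI := hL.2.1
  exact (not_subsingleton (⊥ : Subgroup G)) inferInstance

/-- subnormal `p`-subgroups of `X` lie in the largest normal `p`-subgroup. -/
theorem subnormal_le_op {X : Type*} [Group X] [Finite X] (p : ℕ) [Fact p.Prime] {O : Subgroup X}
    (hO : IsOp p ⊤ O) {K : Subgroup X} (hK : K.IsSubnormal) : ∀ Q, IsOp p K Q → Q ≤ O := by
  induction hK with
  | top => intro Q hQ; exact (hQ.unique hO).le
  | step H K hle hS hN ih =>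
    intro Q hQ
    obtain ⟨Q', hQ'⟩ := exists_isOp p K
    have h1 : K ≤ normalizer (H : Set X) := (normal_subgroupOf_iff_le_normalizer hle).mp hN
    have h2 := hQ.le_normalizer h1
    exact (hQ'.max Q (hQ.le.trans hle) h2 hQ.isP).trans (ih Q' hQ')

/-- If `O_p(X) = 1` for all `p` then every nontrivial subnormal subgroup contains a non-abelian
simple subnormal subgroup. -/
theorem exists_simple_subnormal {X : Type*} [Group X] [Finite X]
    (hO : ∀ p : ℕ, p.Prime → ∀ O : Subgroup X, IsOp p ⊤ O → O = ⊥)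
    {N : Subgroup X} (hN : N.IsSubnormal) (hN1 : N ≠ ⊥) :
    ∃ L ≤ N, L.IsSubnormal ∧ IsSimpleGroup L ∧ ¬ IsMulCommutative L := by
  obtain ⟨L, ⟨hLN, hLs, hL1⟩, hmin⟩ := Set.Finite.exists_minimal
    (s := {K : Subgroup X | K ≤ N ∧ K.IsSubnormal ∧ K ≠ ⊥}) (Set.toFinite _) ⟨N, le_rfl, hN, hN1⟩
  have hsimple : IsSimpleGroup L := by
    haveI : Nontrivial L := (nontrivial_iff_ne_bot L).mpr hL1
    refine ⟨fun K hK => ?_⟩
    have h1 : (K.map L.subtype).IsSubnormal := by
      apply IsSubnormal.step _ L (map_subtype_le K) hLs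
      have : (K.map L.subtype).subgroupOf L = K := by
        rw [subgroupOf, comap_map_eq_self_of_injective L.subtype_injective]
      rw [this]
      exact hK
    by_cases h2 : K = ⊥
    · exact Or.inl h2
    · right
      have h3 : K.map L.subtype ≠ ⊥ := by
        rw [Ne, map_eq_bot_iff_of_injective _ L.subtype_injective]
        exact h2
      have h4 : L ≤ K.map L.subtype :=
        hmin ⟨(map_subtype_le K).trans hLN, h1, h3⟩ (map_subtype_le K)
      rw [eq_top_iff]
      intro x _
      obtain ⟨y, hy, hyx⟩ := h4 x.2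
      rwa [show x = y from Subtype.ext hyx.symm]
  refine ⟨L, hLN, hLs, hsimple, fun hc => ?_⟩
  -- abelian simple: prime order
  letI : CommGroup L := { (inferInstance : Group L) with mul_comm := hc.is_comm.comm }
  have hp : (Nat.card L).Prime := IsSimpleGroup.prime_card
  haveI : Fact (Nat.card L).Prime := ⟨hp⟩
  have hLp : IsPGroup (Nat.card L) L := IsPGroup.of_card (n := 1) (by rw [pow_one])
  obtain ⟨O, hO'⟩ := exists_isOp (Nat.card L) (⊤ : Subgroup X)
  obtain ⟨Q, hQ⟩ := exists_isOp (Nat.card L) L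
  have h1 := subnormal_le_op _ hO' hLs Q hQ
  have h2 : L ≤ Q := hQ.max L le_rfl le_normalizer hLp
  rw [hO _ hp O hO'] at h1
  exact hL1 (le_bot_iff.mp (h2.trans h1))

/-- The same for a subgroup `H` of `G`. -/
theorem exists_comps_le [Finite G] {H : Subgroup G}
    (hO : ∀ p : ℕ, p.Prime → ∀ O : Subgroup G, IsOp p H O → O = ⊥)
    {N : Subgroup G} (hN : SubnIn N H) (hN1 : N ≠ ⊥) : ∃ L ∈ comps H, L ≤ N := by
  have hO' : ∀ p : ℕ, p.Prime → ∀ O : Subgroup H, IsOp p ⊤ O → O = ⊥ := by
    intro p hp O hOp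
    haveI : Fact p.Prime := ⟨hp⟩
    obtain ⟨Q, hQ⟩ := exists_isOp p H
    have h1 : O.map H.subtype ≤ Q := by
      apply hQ.max _ (map_subtype_le O)
      · apply le_normalizer_of_conj
        rintro k hk _ ⟨x, hx, rfl⟩
        exact ⟨⟨k, hk⟩ * x * ⟨k, hk⟩⁻¹, conj_mem_of_mem_normalizer (hOp.norm (mem_top _)) hx, rfl⟩
      · exact hOp.isP.map H.subtype
    rw [hO p hp Q hQ] at h1
    rw [← map_eq_bot_iff_of_injective _ H.subtype_injective]
    exact le_bot_iff.mp h1
  have hN1' : N.subgroupOf H ≠ ⊥ := by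
    intro hc
    apply hN1
    rw [subgroupOf_eq_bot, disjoint_iff, inf_eq_left.mpr hN.1] at hc
    exact hc
  obtain ⟨L, hLN, hLs, hLsimple, hLc⟩ := exists_simple_subnormal hO' hN.2 hN1'
  have e : L ≃* (L.map H.subtype) := L.equivMapOfInjective _ H.subtype_injective
  refine ⟨L.map H.subtype, ⟨⟨map_subtype_le L, ?_⟩, (MulEquiv.isSimpleGroup_congr e).mp hLsimple,
    fun hc => hLc (isMulCommutative_congr e.symm hc)⟩, ?_⟩
  · rw [subgroupOf, comap_map_eq_self_of_injective H.subtype_injective]
    exact hLs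
  · rintro _ ⟨x, hx, rfl⟩
    exact mem_subgroupOf.mp (hLN hx)

/-- The order of the group generated by `m` distinct non-abelian simple subnormal subgroups of
order divisible by 4 is divisible by `4 ^ m`. -/
theorem four_pow_dvd_card [Finite G] {H : Subgroup G}
    (h4 : ∀ L ∈ comps H, 4 ∣ Nat.card L) (s : Finset (Subgroup G)) (hs : ∀ L ∈ s, L ∈ comps H) :
    4 ^ s.card ∣ Nat.card (sSup (s : Set (Subgroup G)) : Subgroup G) := by
  classical
  induction s using Finset.induction_on with
  | empty => simp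
  | insert T s hT ih =>
    have hTc : T ∈ comps H := hs T (Finset.mem_insert_self _ _)
    have ih' := ih fun L hL => hs L (Finset.mem_insert_of_mem hL)
    rw [Finset.card_insert_of_notMem hT, Finset.coe_insert, sSup_insert]
    set S : Subgroup G := sSup (s : Set (Subgroup G)) with hS
    have hcomm : S ≤ centralizer (T : Set G) := by
      rw [hS, sSup_le_iff]
      intro L hL x hx
      have hL' : L ∈ s := hL
      rw [mem_centralizer_iff]
      intro y hy
      have hne : L ≠ T := by rintro rfl; exact hT hL'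
      exact (comps_commute (hs L (Finset.mem_insert_of_mem hL')) hTc hne x hx y hy).symm
    have hTn : T ≤ normalizer (S : Set G) := by
      apply le_normalizer_of_conj
      intro k hk x hx
      have h1 := mem_centralizer_iff.mp (hcomm hx) k hk
      rw [h1, mul_inv_cancel_right]
      exact hx
    have hinf : T ⊓ S = ⊥ := by
      rw [eq_bot_iff_forall]
      rintro x ⟨hxT, hxS⟩
      apply eq_one_of_commute hTc hxT
      intro y hy
      exact (mem_centralizer_iff.mp (hcomm hxS) y hy).symm
    have h1 := card_sup_mul_card_inf hTn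
    rw [hinf, card_bot, mul_one] at h1
    rw [h1, pow_succ, mul_comm]
    exact mul_dvd_mul (h4 T hTc) ih'

end Cfsg.Agent.H427
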