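import Mathlib
import Cfsg.Agent.H427.CsQuot

/-!
# The index of the normal subgroup of elements with large centralizer (helper427)
-/

set_option autoImplicit false

namespace Cfsg.Agent.H427.Cs

open Subgroup

section small

variable {B : Type*} [Group B] [Finite B]

/-- `s` divides `|B|` exactly once and every centralizer: the Sylow `s`-subgroup is central. -/
theorem sylow_central {s : ℕ} (hs : s.Prime) (h1 : s ∣ Nat.card B) (h2 : ¬ s ^ 2 ∣ Nat.card B)
    (h : ∀ b : B, s ∣ Nat.card (centralizer ({b} : Set B))) (P : Sylow s B) :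
    Nat.card P = s ∧ centralizer ((P : Subgroup B) : Set B) = ⊤ := by
  have : Fact s.Prime := ⟨hs⟩
  have hf : (Nat.card B).factorization s = 1 := by
    have h3 : 1 ≤ (Nat.card B).factorization s := (hs.dvd_iff_one_le_factorization Nat.card_pos.ne').mp h1
    have h4 : ¬ 2 ≤ (Nat.card B).factorization s := fun h5 =>
      h2 ((hs.pow_dvd_iff_le_factorization Nat.card_pos.ne').mpr h5)
    omega
  have hcard : ∀ Q : Sylow s B, Nat.card Q = s := by
    intro Q
    rw [Q.card_eq_multiplicity, hf, pow_one]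
  refine ⟨hcard P, ?_⟩
  apply eq_top_of_cover
  intro b
  obtain ⟨z, hz⟩ := exists_prime_orderOf_dvd_card' s (h b)
  have hzo : orderOf (z : B) = s := by rw [← hz]; exact Subgroup.orderOf_coe z
  have hzp : IsPGroup s (zpowers (z : B)) := by
    apply IsPGroup.of_card (n := 1)
    rw [Nat.card_zpowers, hzo, pow_one]
  obtain ⟨Q, hQ⟩ := hzp.exists_le_sylow
  have hQe : zpowers (z : B) = Q := by
    apply Subgroup.eq_of_le_of_card_ge hQ
    rw [Nat.card_zpowers, hzo]
    exact (hcard Q).le
  obtain ⟨g, hg⟩ := MulAction.exists_smul_eq B P Q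
  refine ⟨g, ?_⟩
  rw [mem_centralizer_iff]
  intro y hy
  have h3 : g * y * g⁻¹ ∈ (Q : Subgroup B) := by
    rw [← hg]
    exact ⟨y, hy, rfl⟩
  rw [← hQe] at h3
  have hzc : (z : B) * b = b * z := (mem_centralizer_singleton_iff.mp z.2)
  have h4 : zpowers (z : B) ≤ centralizer ({b} : Set B) := by
    rw [zpowers_le, mem_centralizer_singleton_iff]
    exact hzc
  have h5 := mem_centralizer_singleton_iff.mp (h4 h3)
  have h6 : g⁻¹ * (g * y * g⁻¹ * b) * g = g⁻¹ * (b * (g * y * g⁻¹)) * g := by rw [h5]
  simpa [mul_assoc] using h6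

end small

variable {C : Type*} [Group C] [Finite C]

theorem index_dvd {A b s : ℕ} (hd : ∀ c : C, Nat.card (centralizer ({c} : Set C)) ∣ A ∨ b ∣ Nat.card (centralizer ({c} : Set C)))
    (B : Subgroup C) (hB : B.Normal) (hBm : ∀ c : C, c ∈ B ↔ b ∣ Nat.card (centralizer ({c} : Set C)))
    (hb : b ∣ Nat.card C) (hs : s.Prime) (hsb : s ∣ b) (hsA : ¬ s ∣ A) (hs2 : ¬ s ^ 2 ∣ Nat.card C) :
    B.index ∣ s - 1 := by
  have : Fact s.Prime := ⟨hs⟩
  have hmem : ∀ c : C, s ∣ Nat.card (centralizer ({c} : Set C)) → c ∈ B := by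
    intro c hc
    rw [hBm]
    rcases hd c with h | h
    · exact absurd (hc.trans h) hsA
    · exact h
  -- elements of order `s` are in `B`
  have hself : ∀ y : C, orderOf y = s → y ∈ B := by
    intro y hy
    apply hmem
    have h1 : zpowers y ≤ centralizer ({y} : Set C) := by
      rw [zpowers_le, mem_centralizer_singleton_iff]
    have h2 := Subgroup.card_dvd_of_le h1
    rwa [Nat.card_zpowers, hy] at h2
  -- centralizers in `B`
  have hcB : ∀ c : B, s ∣ Nat.card (centralizer ({c} : Set B)) := by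
    intro c
    have h1 : s ∣ Nat.card (centralizer ({(c : C)} : Set C)) := hsb.trans ((hBm c).mp c.2)
    obtain ⟨z, hz⟩ := exists_prime_orderOf_dvd_card' s h1
    have hzo : orderOf (z : C) = s := by rw [← hz]; exact Subgroup.orderOf_coe z
    have hzB : (z : C) ∈ B := hself _ hzo
    have hzc : (z : C) * c = c * z := mem_centralizer_singleton_iff.mp z.2
    have h2 : zpowers (⟨z, hzB⟩ : B) ≤ centralizer ({c} : Set B) := by
      rw [zpowers_le, mem_centralizer_singleton_iff]
      exact Subtype.ext hzc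
    have h3 := Subgroup.card_dvd_of_le h2
    rw [Nat.card_zpowers, ← Subgroup.orderOf_coe] at h3
    change orderOf (z : C) ∣ _ at h3
    rwa [hzo] at h3
  have hcard1 : s ∣ Nat.card B := (hcB 1).trans (Subgroup.card_subgroup_dvd_card _)
  have hcard2 : ¬ s ^ 2 ∣ Nat.card B := fun h => hs2 (h.trans (Subgroup.card_subgroup_dvd_card _))
  obtain P : Sylow s B := default
  obtain ⟨hPs, hPc⟩ := sylow_central hs hcard1 hcard2 hcB P
  have hPn : (P : Subgroup B).Normal := by
    constructor
    intro x hx g
    have h1 : g ∈ centralizer ((P : Subgroup B) : Set B) := by rw [hPc]; exact mem_top g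
    have h2 := mem_centralizer_iff.mp h1 x hx
    rw [← h2, mul_inv_cancel_right]
    exact hx
  have hPch : (P : Subgroup B).Characteristic := Sylow.characteristic_of_normal P hPn
  have hSn : ((P : Subgroup B).map B.subtype).Normal := inferInstance
  have hScard : Nat.card ((P : Subgroup B).map B.subtype) = s := by
    rw [Nat.card_congr ((P : Subgroup B).equivMapOfInjective B.subtype B.subtype_injective).symm.toEquiv]
    exact hPs
  have hScyc : IsCyclic ((P : Subgroup B).map B.subtype) := isCyclic_of_prime_card hScard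
  -- `B` is the kernel of the conjugation action on `S`
  have hker : (MulAut.conjNormal (H := (P : Subgroup B).map B.subtype)).ker = B := by
    ext c
    rw [MonoidHom.mem_ker]
    constructor
    · intro hc
      apply hmem
      have h1 : (P : Subgroup B).map B.subtype ≤ centralizer ({c} : Set C) := by
        intro y hy
        rw [mem_centralizer_singleton_iff]
        have h2 : (MulAut.conjNormal (H := (P : Subgroup B).map B.subtype) c ⟨y, hy⟩ : C) = y := by
          rw [hc]; rfl
        rw [MulAut.conjNormal_apply] at h2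
        change c * y * c⁻¹ = y at h2
        rw [mul_inv_eq_iff_eq_mul] at h2
        exact h2.symm
      have h2 := Subgroup.card_dvd_of_le h1
      rwa [hScard] at h2
    · intro hc
      apply MulEquiv.ext
      intro y
      apply Subtype.ext
      rw [MulAut.conjNormal_apply]
      obtain ⟨z, hz, hzy⟩ := y.2
      have h1 : (⟨c, hc⟩ : B) ∈ centralizer ((P : Subgroup B) : Set B) := by rw [hPc]; exact mem_top _
      have h2 := mem_centralizer_iff.mp h1 z hz
      have h3 : (z : C) * c = c * z := congrArg Subtype.val h2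
      change c * y * c⁻¹ = y
      rw [← hzy]
      change c * (z : C) * c⁻¹ = z
      rw [← h3, mul_inv_cancel_right]
  have h0 := congrArg Subgroup.index hker
  rw [Subgroup.index_ker] at h0
  have h1 : B.index ∣ Nat.card (MulAut ((P : Subgroup B).map B.subtype)) :=
    h0 ▸ Subgroup.card_subgroup_dvd_card _
  rw [IsCyclic.card_mulAut, hScard, Nat.totient_prime hs] at h1
  exact h1

/-- in a `q`-group of order at least `q²` every centralizer has order divisible by `q²` -/
theorem sq_dvd_centralizer {Q : Type*} [Group Q] [Finite Q] {q : ℕ} (hq : q.Prime) (hQ : IsPGroup q Q)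
    (h2 : q ^ 2 ∣ Nat.card Q) (h : Q) : q ^ 2 ∣ Nat.card (centralizer ({h} : Set Q)) := by
  have : Fact q.Prime := ⟨hq⟩
  obtain ⟨n, hn⟩ := (IsPGroup.iff_card.mp (hQ.to_subgroup (centralizer ({h} : Set Q))))
  rw [hn]
  apply pow_dvd_pow
  by_contra hlt
  have hn1 : n ≤ 1 := by omega
  have hle : Nat.card (centralizer ({h} : Set Q)) ≤ q := by
    rw [hn]
    calc q ^ n ≤ q ^ 1 := Nat.pow_le_pow_right hq.pos hn1
      _ = q := pow_one q
  have hcle : center Q ≤ centralizer ({h} : Set Q) := by
    intro x hx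
    rw [mem_centralizer_singleton_iff]
    exact ((mem_center_iff.mp hx) h).symm
  have hnt : Nontrivial Q := by
    rw [← Finite.one_lt_card_iff_nontrivial]
    exact lt_of_lt_of_le (Nat.one_lt_pow two_ne_zero hq.one_lt) (Nat.le_of_dvd Nat.card_pos h2)
  have hZ : Nontrivial (center Q) := hQ.center_nontrivial
  have hZq : q ≤ Nat.card (center Q) := by
    obtain ⟨m, hm⟩ := (IsPGroup.iff_card.mp (hQ.to_subgroup (center Q)))
    have h3 := Finite.one_lt_card_iff_nontrivial.mpr hZ
    rw [hm] at h3 ⊢
    have hm0 : m ≠ 0 := by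
      rintro rfl
      simp at h3
    calc q = q ^ 1 := (pow_one q).symm
      _ ≤ q ^ m := Nat.pow_le_pow_right hq.pos (Nat.one_le_iff_ne_zero.mpr hm0)
  have heq : center Q = centralizer ({h} : Set Q) :=
    Subgroup.eq_of_le_of_card_ge hcle (hle.trans hZq)
  have hh : h ∈ center Q := by
    rw [heq, mem_centralizer_singleton_iff]
  have htop : centralizer ({h} : Set Q) = ⊤ := by
    rw [eq_top_iff]
    intro x _
    rw [mem_centralizer_singleton_iff]
    exact (mem_center_iff.mp hh) x
  rw [htop, Subgroup.card_top] at hle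
  have h3 : q ^ 2 ≤ q := (Nat.le_of_dvd Nat.card_pos h2).trans hle
  have h4 : q < q ^ 2 := by
    rw [pow_two]
    exact lt_mul_of_one_lt_left hq.pos hq.one_lt
  omega

theorem sq_dvd {A b q : ℕ} (hd : ∀ c : C, Nat.card (centralizer ({c} : Set C)) ∣ A ∨ b ∣ Nat.card (centralizer ({c} : Set C)))
    (B : Subgroup C) (hBm : ∀ c : C, c ∈ B ↔ b ∣ Nat.card (centralizer ({c} : Set C)))
    (hq : q.Prime) (hqB : q ∣ B.index) (hq2 : q ^ 2 ∣ Nat.card C) : q ^ 2 ∣ A := by
  have : Fact q.Prime := ⟨hq⟩
  obtain Q : Sylow q C := default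
  have hQB : ¬ (Q : Subgroup C) ≤ B := fun h => Q.not_dvd_index (hqB.trans (Subgroup.index_dvd_of_le h))
  obtain ⟨h, hhQ, hhB⟩ := SetLike.not_le_iff_exists.mp hQB
  have hQ2 : q ^ 2 ∣ Nat.card Q := by
    rw [Q.card_eq_multiplicity]
    exact pow_dvd_pow q ((hq.pow_dvd_iff_le_factorization Nat.card_pos.ne').mp hq2)
  have h1 := sq_dvd_centralizer hq Q.isPGroup' hQ2 ⟨h, hhQ⟩
  have h2 : Nat.card (centralizer ({(⟨h, hhQ⟩ : Q)} : Set Q)) ∣ Nat.card (centralizer ({h} : Set C)) := by
    have h3 : (centralizer ({(⟨h, hhQ⟩ : Q)} : Set Q)).map (Q : Subgroup C).subtype ≤ centralizer ({h} : Set C) := by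
      rintro x ⟨y, hy, rfl⟩
      rw [mem_centralizer_singleton_iff]
      exact congrArg Subtype.val (mem_centralizer_singleton_iff.mp hy)
    have h4 := Subgroup.card_dvd_of_le h3
    rwa [Nat.card_congr ((centralizer ({(⟨h, hhQ⟩ : Q)} : Set Q)).equivMapOfInjective (Q : Subgroup C).subtype
      (Q : Subgroup C).subtype_injective).symm.toEquiv] at h4
  rcases hd h with h5 | h5
  · exact (h1.trans h2).trans h5
  · exact absurd ((hBm h).mpr h5) hhB

end Cfsg.Agent.H427.Cs
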