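import Mathlib
import Cfsg.Agent.H427.CsIndex

/-!
# Elements of prime order with large centralizer (helper427)

`r` divides `|G|` exactly once, every centralizer order divisible by `r` divides `r a` or is divisible by `b`,
`|G| r a < b²`, and an element of order `r` has centralizer order divisible by `b`.  Then for every `g` with
`|C(g)|` divisible by `r` and dividing `r a` there is a prime `q` dividing `|C(g)|` and dividing `s - 1` for every
prime `s` dividing `b` and `|G|` exactly once and not dividing `r a`.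
-/

set_option autoImplicit false

namespace Cfsg.Agent.H427.Cs

open Subgroup

variable {G : Type*} [Group G] [Finite G]

omit [Finite G] in
theorem commute_of_pow {y c : G} {m n : ℕ} (h : Nat.Coprime m n) (h1 : Commute y (c ^ m)) (h2 : Commute y (c ^ n)) :
    Commute y c := by
  have h3 : c = (c ^ m) ^ (Nat.gcdA m n) * (c ^ n) ^ (Nat.gcdB m n) := by
    rw [← zpow_natCast, ← zpow_natCast, ← zpow_mul, ← zpow_mul, ← zpow_add, ← Nat.gcd_eq_gcd_ab, h.gcd_eq_one,
      Nat.cast_one, zpow_one]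
  rw [h3]
  exact (h1.zpow_right _).mul_right (h2.zpow_right _)

/-- two elements of order `r` generate conjugate subgroups -/
theorem exists_conj_mem_zpowers {r : ℕ} (hr : r.Prime) (hr2 : ¬ r ^ 2 ∣ Nat.card G) {x z : G} (hx : orderOf x = r)
    (hz : orderOf z = r) : ∃ t : G, x ∈ zpowers (t * z * t⁻¹) := by
  have : Fact r.Prime := ⟨hr⟩
  have hf : (Nat.card G).factorization r = 1 := by
    have h1 : r ∣ Nat.card G := hx ▸ orderOf_dvd_natCard x
    have h3 : 1 ≤ (Nat.card G).factorization r := (hr.dvd_iff_one_le_factorization Nat.card_pos.ne').mp h1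
    have h4 : ¬ 2 ≤ (Nat.card G).factorization r := fun h5 =>
      hr2 ((hr.pow_dvd_iff_le_factorization Nat.card_pos.ne').mpr h5)
    omega
  have key : ∀ y : G, orderOf y = r → ∃ Q : Sylow r G, zpowers y = Q := by
    intro y hy
    have hp : IsPGroup r (zpowers y) := by
      apply IsPGroup.of_card (n := 1)
      rw [Nat.card_zpowers, hy, pow_one]
    obtain ⟨Q, hQ⟩ := hp.exists_le_sylow
    refine ⟨Q, Subgroup.eq_of_le_of_card_ge hQ ?_⟩
    rw [Nat.card_zpowers, hy]
    change Nat.card Q ≤ r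
    rw [Q.card_eq_multiplicity, hf, pow_one]
  obtain ⟨Q, hQ⟩ := key z hz
  obtain ⟨R, hR⟩ := key x hx
  obtain ⟨t, ht⟩ := MulAction.exists_smul_eq G Q R
  refine ⟨t, ?_⟩
  have h1 : x ∈ (R : Subgroup G) := by rw [← hR]; exact mem_zpowers x
  rw [← ht] at h1
  obtain ⟨y, hy, hyx⟩ := h1
  have h2 : y ∈ zpowers z := by rw [hQ]; exact hy
  obtain ⟨k, rfl⟩ := mem_zpowers_iff.mp h2
  rw [mem_zpowers_iff]
  refine ⟨k, ?_⟩
  rw [conj_zpow]
  exact hyx

/-- the centralizer in `C(x)` of an element of `C(x)` is the centralizer of an element of `G` -/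
theorem exists_centralizer {r : ℕ} (hr : r.Prime) (hr2 : ¬ r ^ 2 ∣ Nat.card G) {x : G} (hx : orderOf x = r)
    (c : centralizer ({x} : Set G)) : ∃ h : G, r ∣ Nat.card (centralizer ({h} : Set G)) ∧
      Nat.card (centralizer ({c} : Set (centralizer ({x} : Set G)))) = Nat.card (centralizer ({h} : Set G)) := by
  have hcx : Commute (c : G) x := mem_centralizer_singleton_iff.mp c.2
  -- the order of `c ^ r` is prime to `r`
  have ho2 : ¬ r ^ 2 ∣ orderOf (c : G) := fun h => hr2 (h.trans (orderOf_dvd_natCard _))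
  obtain ⟨m, hm⟩ : ∃ m, m = orderOf ((c : G) ^ r) := ⟨_, rfl⟩
  have hmr : Nat.Coprime r m := by
    rw [hr.coprime_iff_not_dvd, hm]
    intro h
    apply ho2
    rw [orderOf_pow' _ hr.ne_zero] at h
    have h1 : Nat.gcd (orderOf (c : G)) r ∣ orderOf (c : G) := Nat.gcd_dvd_left _ _
    have h2 : r ∣ orderOf (c : G) := h.trans (Nat.div_dvd_of_dvd h1)
    rw [Nat.gcd_eq_right h2] at h
    obtain ⟨k, hk⟩ := h2
    rw [hk, Nat.mul_div_cancel_left _ hr.pos] at h
    rw [hk, pow_two]
    exact Nat.mul_dvd_mul_left r h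
  -- `c ^ m` is a power of `x`
  have hcm : (c : G) ^ m ∈ zpowers x := by
    have h1 : ((c : G) ^ m) ^ r = 1 := by
      rw [← pow_mul, mul_comm, pow_mul, hm, pow_orderOf_eq_one]
    have : Fact r.Prime := ⟨hr⟩
    by_cases h2 : (c : G) ^ m = 1
    · rw [h2]; exact one_mem _
    have ho : orderOf ((c : G) ^ m) = r := orderOf_eq_prime h1 h2
    have hxx : x ∈ centralizer ({x} : Set G) := mem_centralizer_singleton_iff.mpr rfl
    have hr2' : ¬ r ^ 2 ∣ Nat.card (centralizer ({x} : Set G)) := fun h =>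
      hr2 (h.trans (Subgroup.card_subgroup_dvd_card _))
    have e1 : orderOf (⟨x, hxx⟩ : centralizer ({x} : Set G)) = r := by rw [Subgroup.orderOf_mk, hx]
    have e2 : orderOf (c ^ m) = r := by
      rw [← Subgroup.orderOf_coe]
      exact ho
    obtain ⟨t, ht⟩ := exists_conj_mem_zpowers hr hr2' e1 e2
    have h3 : (⟨x, hxx⟩ : centralizer ({x} : Set G)) ∈ zpowers (c ^ m) := by
      obtain ⟨k, hk⟩ := mem_zpowers_iff.mp ht
      rw [conj_zpow] at hk
      refine mem_zpowers_iff.mpr ⟨k, ?_⟩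
      have h4 : t * ⟨x, hxx⟩ = ⟨x, hxx⟩ * t := Subtype.ext (mem_centralizer_singleton_iff.mp t.2)
      calc (c ^ m) ^ k = t⁻¹ * (t * (c ^ m) ^ k * t⁻¹) * t := by group
        _ = t⁻¹ * ⟨x, hxx⟩ * t := by rw [hk]
        _ = t⁻¹ * (t * ⟨x, hxx⟩) := by rw [mul_assoc, ← h4]
        _ = ⟨x, hxx⟩ := by group
    have h5 : zpowers (⟨x, hxx⟩ : centralizer ({x} : Set G)) = zpowers (c ^ m) := by
      apply Subgroup.eq_of_le_of_card_ge (by rwa [zpowers_le])
      rw [Nat.card_zpowers, Nat.card_zpowers, e1, e2]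
    have h6 : c ^ m ∈ zpowers (⟨x, hxx⟩ : centralizer ({x} : Set G)) := by rw [h5]; exact mem_zpowers _
    obtain ⟨k, hk⟩ := mem_zpowers_iff.mp h6
    refine mem_zpowers_iff.mpr ⟨k, ?_⟩
    have h7 := congrArg Subtype.val hk
    simpa using h7
  have hkey : ∀ y : G, Commute y (x * (c : G) ^ r) → Commute y x ∧ Commute y (c : G) := by
    intro y hy
    have h1 : Commute y (x ^ m) := by
      have h2 := hy.pow_right m
      rw [((hcx.symm).pow_right r).mul_pow, hm, pow_orderOf_eq_one, mul_one] at h2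
      rw [hm]
      exact h2
    have h3 : Commute y (x ^ r) := by
      rw [← hx, pow_orderOf_eq_one]
      exact Commute.one_right y
    have h4 : Commute y x := commute_of_pow hmr h3 h1
    have h5 : Commute y ((c : G) ^ r) := by
      have h6 : (c : G) ^ r = x⁻¹ * (x * (c : G) ^ r) := by group
      rw [h6]
      exact (h4.inv_right).mul_right hy
    have h7 : Commute y ((c : G) ^ m) := by
      obtain ⟨k, hk⟩ := mem_zpowers_iff.mp hcm
      rw [← hk]
      exact h4.zpow_right k
    exact ⟨h4, commute_of_pow hmr h5 h7⟩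
  refine ⟨x * (c : G) ^ r, ?_, ?_⟩
  · have h1 : zpowers x ≤ centralizer ({x * (c : G) ^ r} : Set G) := by
      rw [zpowers_le, mem_centralizer_singleton_iff]
      have := (hcx.pow_left r).eq
      rw [mul_assoc, this]
    have h2 := Subgroup.card_dvd_of_le h1
    rwa [Nat.card_zpowers, hx] at h2
  · apply Nat.card_congr
    refine ⟨fun y => ⟨(y : centralizer ({x} : Set G)), ?_⟩, fun y => ⟨⟨y, ?_⟩, ?_⟩, ?_, ?_⟩
    · rw [mem_centralizer_singleton_iff]
      have h1 : Commute ((y : centralizer ({x} : Set G)) : G) x := mem_centralizer_singleton_iff.mp y.1.2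
      have h2 : Commute ((y : centralizer ({x} : Set G)) : G) (c : G) :=
        congrArg Subtype.val (mem_centralizer_singleton_iff.mp y.2)
      exact (h1.mul_right (h2.pow_right r)).eq
    · exact mem_centralizer_singleton_iff.mpr (hkey y (mem_centralizer_singleton_iff.mp y.2)).1.eq
    · exact mem_centralizer_singleton_iff.mpr (Subtype.ext (hkey y (mem_centralizer_singleton_iff.mp y.2)).2.eq)
    · intro y
      rfl
    · intro y
      rfl

/-- **The dichotomy.** -/
theorem exists_prime_of_large {r a b : ℕ} (hr : r.Prime) (hr2 : ¬ r ^ 2 ∣ Nat.card G) (ha : 0 < a)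
    (hd : ∀ g : G, r ∣ Nat.card (centralizer ({g} : Set G)) →
      Nat.card (centralizer ({g} : Set G)) ∣ r * a ∨ b ∣ Nat.card (centralizer ({g} : Set G)))
    (hsize : Nat.card G * (r * a) < b ^ 2) {x : G} (hx : orderOf x = r)
    (hxb : b ∣ Nat.card (centralizer ({x} : Set G))) {g : G} (hg : r ∣ Nat.card (centralizer ({g} : Set G)))
    (hga : Nat.card (centralizer ({g} : Set G)) ∣ r * a) :
    ∃ q : ℕ, q.Prime ∧ q ∣ Nat.card (centralizer ({g} : Set G)) ∧ (q ^ 2 ∣ b → q ^ 2 ∣ r * a) ∧
      ∀ s : ℕ, s.Prime → s ∣ b → ¬ s ∣ r * a → ¬ s ^ 2 ∣ Nat.card G → q ∣ s - 1 := by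
  have hA : 0 < r * a := Nat.mul_pos hr.pos ha
  have hdC : ∀ c : centralizer ({x} : Set G),
      Nat.card (centralizer ({c} : Set (centralizer ({x} : Set G)))) ∣ r * a ∨
      b ∣ Nat.card (centralizer ({c} : Set (centralizer ({x} : Set G)))) := by
    intro c
    obtain ⟨h, h1, h2⟩ := exists_centralizer hr hr2 hx c
    rw [h2]
    exact hd h h1
  have hCG : Nat.card (centralizer ({x} : Set G)) ≤ Nat.card G := Subgroup.card_le_card_group _
  have hsizeC : Nat.card (centralizer ({x} : Set G)) * (r * a) < b ^ 2 :=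
    lt_of_le_of_lt (Nat.mul_le_mul_right _ hCG) hsize
  have hbra : ¬ b ∣ r * a := by
    intro h
    have h1 : b ≤ r * a := Nat.le_of_dvd hA h
    have h2 : b ≤ Nat.card (centralizer ({x} : Set G)) := Nat.le_of_dvd Nat.card_pos hxb
    have h3 : b ^ 2 ≤ Nat.card (centralizer ({x} : Set G)) * (r * a) := by
      rw [pow_two]
      exact Nat.mul_le_mul h2 h1
    omega
  obtain ⟨B, hBn, hBm⟩ := exists_normal hA hdC hxb hsizeC
  -- conjugate `g` into `C(x)`
  have : Fact r.Prime := ⟨hr⟩
  obtain ⟨z, hz⟩ := exists_prime_orderOf_dvd_card' r hg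
  have hzo : orderOf (z : G) = r := by rw [← hz]; exact Subgroup.orderOf_coe z
  obtain ⟨t, ht⟩ := exists_conj_mem_zpowers hr hr2 hx hzo
  have hzg : Commute (z : G) g := mem_centralizer_singleton_iff.mp z.2
  have hc1 : Commute (t * z * t⁻¹) (t * g * t⁻¹) := by
    change t * z * t⁻¹ * (t * g * t⁻¹) = t * g * t⁻¹ * (t * z * t⁻¹)
    have := hzg.eq
    calc t * z * t⁻¹ * (t * g * t⁻¹) = t * (z * g) * t⁻¹ := by group
      _ = t * (g * z) * t⁻¹ := by rw [this]
      _ = _ := by group
  have hc2 : Commute (t * g * t⁻¹) x := by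
    obtain ⟨k, hk⟩ := mem_zpowers_iff.mp ht
    rw [← hk]
    exact (hc1.symm).zpow_right k
  have hgC : t * g * t⁻¹ ∈ centralizer ({x} : Set G) := mem_centralizer_singleton_iff.mpr hc2.eq
  obtain ⟨c, hc⟩ : ∃ c : centralizer ({x} : Set G), c = ⟨t * g * t⁻¹, hgC⟩ := ⟨_, rfl⟩
  have hcc : Nat.card (centralizer ({c} : Set (centralizer ({x} : Set G)))) ∣
      Nat.card (centralizer ({g} : Set G)) := by
    rw [← card_centralizer_conj g t]
    have h3 : (centralizer ({c} : Set (centralizer ({x} : Set G)))).map (centralizer ({x} : Set G)).subtype ≤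
        centralizer ({t * g * t⁻¹} : Set G) := by
      rintro _ ⟨y, hy, rfl⟩
      rw [mem_centralizer_singleton_iff]
      have h4 := congrArg Subtype.val (mem_centralizer_singleton_iff.mp hy)
      rw [hc] at h4
      exact h4
    have h4 := Subgroup.card_dvd_of_le h3
    rwa [Nat.card_congr ((centralizer ({c} : Set (centralizer ({x} : Set G)))).equivMapOfInjective
      (centralizer ({x} : Set G)).subtype (centralizer ({x} : Set G)).subtype_injective).symm.toEquiv] at h4
  have hcB : c ∉ B := fun h => hbra (((hBm c).mp h).trans (hcc.trans hga))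
  have hq1 : orderOf (QuotientGroup.mk' B c) ≠ 1 := by
    intro h
    rw [orderOf_eq_one_iff] at h
    exact hcB ((QuotientGroup.eq_one_iff c).mp h)
  obtain ⟨q, hq, hqd⟩ := Nat.exists_prime_and_dvd hq1
  have hqB : q ∣ B.index := by
    rw [Subgroup.index_eq_card]
    exact hqd.trans (orderOf_dvd_natCard _)
  have hqc : q ∣ Nat.card (centralizer ({g} : Set G)) := by
    have h1 : q ∣ orderOf c := hqd.trans (orderOf_map_dvd _ c)
    have h2 : orderOf c ∣ Nat.card (centralizer ({c} : Set (centralizer ({x} : Set G)))) := by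
      have h3 : zpowers c ≤ centralizer ({c} : Set (centralizer ({x} : Set G))) := by
        rw [zpowers_le, mem_centralizer_singleton_iff]
      have h4 := Subgroup.card_dvd_of_le h3
      rwa [Nat.card_zpowers] at h4
    exact (h1.trans h2).trans hcc
  refine ⟨q, hq, hqc, fun h => sq_dvd hdC B hBm hq hqB (h.trans hxb), fun s hs hsb hsa hs2 => ?_⟩
  exact hqB.trans (index_dvd hdC B hBn hBm hxb hs hsb hsa fun h => hs2 (h.trans (Subgroup.card_subgroup_dvd_card _)))

end Cfsg.Agent.H427.Cs
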