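import Mathlib

/-!
# Primitive actions: basic facts used for suborbits

Point stabilizers in a faithful primitive action on a nontrivial set: they are maximal,
core free, and two distinct ones share no nontrivial subgroup that is normal in both.
-/

set_option autoImplicit false

namespace Cfsg.Agent.H427

open MulAction

variable {G Ω : Type*} [Group G] [MulAction G Ω]

/-- In a faithful transitive action a normal subgroup contained in a point stabilizer is
trivial. -/
theorem normal_le_stabilizer_eq_bot [FaithfulSMul G Ω] [IsPretransitive G Ω] (N : Subgroup G)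
    [hN : N.Normal] (a : Ω) (h : N ≤ stabilizer G a) : N = ⊥ := by
  rw [Subgroup.eq_bot_iff_forall]
  intro x hx
  apply FaithfulSMul.eq_of_smul_eq_smul (α := Ω)
  intro ω
  obtain ⟨g, rfl⟩ := MulAction.exists_smul_eq G a ω
  have h1 : g⁻¹ * x * g ∈ stabilizer G a := by
    apply h
    have := hN.conj_mem x hx g⁻¹
    simpa using this
  rw [mem_stabilizer_iff] at h1
  rw [one_smul]
  calc x • g • a = g • ((g⁻¹ * x * g) • a) := by simp [smul_smul, mul_assoc]
    _ = g • a := by rw [h1]

/-- In a faithful primitive action on a nontrivial set, the normalizer of a nontrivial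
normal subgroup of a point stabilizer is that point stabilizer. -/
theorem normalizer_eq_stabilizer [FaithfulSMul G Ω] [Nontrivial Ω] [IsPreprimitive G Ω] (a : Ω)
    (X : Subgroup G) (hX : X ≠ ⊥) (hXa : X ≤ stabilizer G a)
    (hn : stabilizer G a ≤ Subgroup.normalizer (X : Set G)) :
    Subgroup.normalizer (X : Set G) = stabilizer G a := by
  have hco := IsPreprimitive.isCoatom_stabilizer_of_isPreprimitive G a
  rcases eq_or_lt_of_le hn with h | h
  · exact h.symm
  · exfalso
    have htop := hco.2 _ h
    have : X.Normal := Subgroup.normalizer_eq_top_iff.mp htop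
    exact hX (normal_le_stabilizer_eq_bot X a hXa)

/-- A group all of whose nontrivial subgroups are the whole group has prime order. -/
theorem prime_card_of_isCoatom_bot [Finite G] (h : IsCoatom (⊥ : Subgroup G)) :
    IsCyclic G ∧ (Nat.card G).Prime := by
  have hnt : Nontrivial G := by
    by_contra hcon
    rw [not_nontrivial_iff_subsingleton] at hcon
    exact h.1 (Subsingleton.elim _ _)
  obtain ⟨x, hx⟩ := exists_ne (1 : G)
  have key : ∀ H : Subgroup G, H ≠ ⊥ → H = ⊤ := fun H hH => h.2 H (bot_lt_iff_ne_bot.mpr hH)
  have hxt : Subgroup.zpowers x = ⊤ := key _ (by rwa [Ne, Subgroup.zpowers_eq_bot])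
  have hcyc : IsCyclic G := ⟨x, fun y => by
    have : y ∈ (⊤ : Subgroup G) := Subgroup.mem_top y
    rwa [← hxt] at this⟩
  refine ⟨hcyc, ?_⟩
  letI : CommGroup G := IsCyclic.commGroup
  haveI : IsSimpleGroup G := ⟨fun H _ => by
    by_cases hH : H = ⊥
    · exact Or.inl hH
    · exact Or.inr (key H hH)⟩
  exact IsSimpleGroup.prime_card

end Cfsg.Agent.H427
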