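import Cfsg.Agent.H427.PrimBasic

/-!
# Suborbits: lengths as relative indices
-/

set_option autoImplicit false

namespace Cfsg.Agent.H427

open MulAction

variable {G Ω : Type*} [Group G] [MulAction G Ω]

/-- The length of a suborbit is a relative index of point stabilizers. -/
theorem card_suborbit (a b : Ω) :
    Nat.card (orbit (stabilizer G a) b) = (stabilizer G b).relIndex (stabilizer G a) := by
  have h1 := MulAction.index_stabilizer (stabilizer G a) b
  have h2 : stabilizer (stabilizer G a) b = (stabilizer G b).subgroupOf (stabilizer G a) := by
    ext x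
    rfl
  rw [Subgroup.relIndex, ← h2, h1, Nat.card_coe_set_eq]

/-- In a transitive action all point stabilizers have the same order. -/
theorem card_stabilizer_eq [IsPretransitive G Ω] (a b : Ω) :
    Nat.card (stabilizer G a) = Nat.card (stabilizer G b) := by
  obtain ⟨g, rfl⟩ := MulAction.exists_smul_eq G a b
  exact Nat.card_congr (MulAction.stabilizerEquivStabilizer (g := g) rfl).toEquiv

/-- Lagrange for nested subgroups. -/
theorem card_mul_relIndex (H K : Subgroup G) (h : H ≤ K) :
    Nat.card H * H.relIndex K = Nat.card K := by
  rw [← Subgroup.relIndex_bot_left, ← Subgroup.relIndex_bot_left]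
  exact Subgroup.relIndex_mul_relIndex ⊥ H K bot_le h

/-- Paired suborbits have the same length. -/
theorem relIndex_stabilizer_symm [Finite G] [IsPretransitive G Ω] (a b : Ω) :
    (stabilizer G b).relIndex (stabilizer G a) = (stabilizer G a).relIndex (stabilizer G b) := by
  have h1 : Nat.card ↥(stabilizer G b ⊓ stabilizer G a) *
      (stabilizer G b).relIndex (stabilizer G a) = Nat.card (stabilizer G a) := by
    rw [← Subgroup.inf_relIndex_right]
    exact card_mul_relIndex _ _ inf_le_right
  have h2 : Nat.card ↥(stabilizer G b ⊓ stabilizer G a) *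
      (stabilizer G a).relIndex (stabilizer G b) = Nat.card (stabilizer G b) := by
    rw [inf_comm, ← Subgroup.inf_relIndex_right]
    exact card_mul_relIndex _ _ inf_le_right
  have h3 := card_stabilizer_eq (G := G) a b
  rw [← h1, ← h2] at h3
  exact Nat.eq_of_mul_eq_mul_left Nat.card_pos h3

end Cfsg.Agent.H427
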